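import Groth.Agent.JacVarLib.Div
import Groth.Agent.Jacobian.Dim
import Groth.Agent.CurveAlgEqLib.IdealPull
import Groth.Agent.GrpSchLib.CharZeroPts
import Groth.Agent.AVDualCx.Point
import Groth.Agent.Lib.CurveDualPrep
import Groth.Prelude.Def_Jac

/-!
# Points of a Jacobian over an algebraically closed field are classes of degree zero
-/

set_option autoImplicit false
set_option maxHeartbeats 1600000
set_option linter.style.haveILetI false
set_option linter.unusedSectionVars false
set_option backward.isDefEq.respectTransparency false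
set_option backward.isDefEq.respectTransparency.types false

universe u

open CategoryTheory CategoryTheory.Limits AlgebraicGeometry TopologicalSpace Opposite
  MonoidalCategory CartesianMonoidalCategory

noncomputable section

namespace Groth.Agent.JacVarLib

open Groth.Agent Groth.Agent.H23 Groth.Agent.H23.PicMul Groth.Agent.CurvePoint
open scoped Groth.Agent.H23.PicMul MonObj

section Ext

variable {k : Type u} [Field k] {X : Scheme.{u}}

/-- Rational points are determined by their images. -/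
theorem rat_ext (h : X ⟶ Spec (CommRingCat.of k)) {a b : Spec (CommRingCat.of k) ⟶ X}
    (ha : a ≫ h = 𝟙 _) (hb : b ≫ h = 𝟙 _)
    (H : a (IsLocalRing.closedPoint k) = b (IsLocalRing.closedPoint k)) : a = b := by
  let x := a (IsLocalRing.closedPoint k)
  let α : X.residueField x ⟶ CommRingCat.of k := X.descResidueField (Scheme.stalkClosedPointTo a)
  have hα : Spec.map α ≫ X.fromSpecResidueField x = a :=
    Scheme.descResidueField_stalkClosedPointTo_fromSpecResidueField k X a
  let β' := X.descResidueField (Scheme.stalkClosedPointTo b)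
  let β : X.residueField x ⟶ CommRingCat.of k := (X.residueFieldCongr H).hom ≫ β'
  have hβ : Spec.map β ≫ X.fromSpecResidueField x = b := by
    rw [Spec.map_comp, Category.assoc, Scheme.residueFieldCongr_fromSpecResidueField]
    exact Scheme.descResidueField_stalkClosedPointTo_fromSpecResidueField k X b
  let c := Spec.preimage (X.fromSpecResidueField x ≫ h)
  have key : ∀ r : X.residueField x ⟶ CommRingCat.of k, (Spec.map r ≫ X.fromSpecResidueField x) ≫ h = 𝟙 _ →
      c ≫ r = 𝟙 _ := by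
    intro r hγ
    apply Spec.map_injective
    rw [Spec.map_comp, Spec.map_id, Spec.map_preimage, ← Category.assoc, hγ]
  have h1 := key α (by rw [hα, ha])
  have h2 := key β (by rw [hβ, hb])
  have : α = β := by
    ext z
    have e1 : c (α z) = z := α.hom.injective (ConcreteCategory.congr_hom h1 (α z))
    calc α z = β (c (α z)) := (ConcreteCategory.congr_hom h2 (α z)).symm
      _ = β z := by rw [e1]
  rw [← hα, ← hβ, this]

end Ext

variable (k : Type u) [Field k] {C : Scheme.{u}} [C.Over (Spec (CommRingCat.of k))]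

/-- The curve over the base as test scheme. -/
abbrev q0 : PicF.XT (C ↘ Spec (CommRingCat.of k)) (𝟙_ (Over (Spec (CommRingCat.of k)))) ⟶ C :=
  pullback.fst (C ↘ Spec (CommRingCat.of k)) (𝟙_ (Over (Spec (CommRingCat.of k)))).hom

/-- Its inverse. -/
abbrev i0 : C ⟶ PicF.XT (C ↘ Spec (CommRingCat.of k)) (𝟙_ (Over (Spec (CommRingCat.of k)))) :=
  pullback.lift (𝟙 C) (C ↘ Spec (CommRingCat.of k))
    ((Category.id_comp _).trans (Category.comp_id (C ↘ Spec (CommRingCat.of k))).symm)

theorem i0_q0 : i0 k ≫ q0 k = 𝟙 C := pullback.lift_fst _ _ _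

theorem q0_i0 : q0 k ≫ i0 k = 𝟙 (PicF.XT (C ↘ Spec (CommRingCat.of k)) (𝟙_ (Over (Spec (CommRingCat.of k))))) := by
  refine pullback.hom_ext ?_ ?_
  · rw [Category.assoc, pullback.lift_fst, Category.comp_id, Category.id_comp]
  · rw [Category.assoc, pullback.lift_snd, Category.id_comp]
    exact pullback.condition.trans (Category.comp_id _)

/-- A class, on the curve over the base. -/
def up (v : Pc C) : PicF.Cl (PicF.XT (C ↘ Spec (CommRingCat.of k)) (𝟙_ (Over (Spec (CommRingCat.of k))))) :=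
  PicF.pullCl (q0 k) v.1.val

theorem up_injective : Function.Injective (up k : Pc C → _) := fun v w h => ext_val (by
  have := congrArg (PicF.pullCl (i0 k)) h
  rwa [up, up, PicClLib.pullCl_comp, PicClLib.pullCl_comp, i0_q0, PicClLib.pullCl_id, PicClLib.pullCl_id] at this)

theorem up_mul (v w : Pc C) : up k (v * w) = up k v * up k w := pullCl_mul _ _ _

/-- The pullback of a module in a class. -/
abbrev upMod (v : Pc C) : (PicF.XT (C ↘ Spec (CommRingCat.of k)) (𝟙_ (Over (Spec (CommRingCat.of k))))).Modules :=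
  (Scheme.Modules.pullback (q0 k)).obj (out v)

theorem cl_upMod (v : Pc C) : PicF.cl (upMod k v) = up k v := by
  rw [up, ← cl_out]
  rfl

variable [IsAlgClosed k] [IsIntegral C] [IsProper (C ↘ Spec (CommRingCat.of k))]
  [Smooth (C ↘ Spec (CommRingCat.of k))] [GeometricallyConnected (C ↘ Spec (CommRingCat.of k))]
  (hdim : topologicalKrullDim C = 1)

/-- The degree on a geometric fibre. -/
theorem deg_fibre {v : Pc C} {E : (PicF.XT (C ↘ Spec (CommRingCat.of k)) (𝟙_ (Over (Spec (CommRingCat.of k))))).Modules}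
    (hE : PicF.cl E = up k v) (Ω : Type u) [Field Ω] [IsAlgClosed Ω]
    (t : Spec (CommRingCat.of Ω) ⟶ (𝟙_ (Over (Spec (CommRingCat.of k)))).left) :
    (letI : (PicF.XT (C ↘ Spec (CommRingCat.of k)) (Over.mk (t ≫ (𝟙_ (Over (Spec (CommRingCat.of k)))).hom))).Over
        (Spec (CommRingCat.of Ω)) := ⟨PicF.XTproj _ _⟩;
      Curv2.deg Ω (PicF.XT (C ↘ Spec (CommRingCat.of k)) (Over.mk (t ≫ (𝟙_ (Over (Spec (CommRingCat.of k)))).hom)))
        ((Scheme.Modules.pullback (PicF.XTmap (C ↘ Spec (CommRingCat.of k))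
          (Over.homMk t rfl : Over.mk (t ≫ (𝟙_ (Over (Spec (CommRingCat.of k)))).hom) ⟶ 𝟙_ _))).obj E) 1) = dg k v := by
  let T' := Over.mk (t ≫ (𝟙_ (Over (Spec (CommRingCat.of k)))).hom)
  let g' : T' ⟶ 𝟙_ (Over (Spec (CommRingCat.of k))) := Over.homMk t rfl
  let X' := PicF.XT (C ↘ Spec (CommRingCat.of k)) T'
  letI iO : X'.Over (Spec (CommRingCat.of Ω)) := ⟨PicF.XTproj _ _⟩
  let φ : CommRingCat.of k ⟶ CommRingCat.of Ω := Spec.preimage T'.hom
  letI : Algebra k Ω := φ.hom.toAlgebra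
  haveI := CurveCohLib.isNoetherian_of_proper (k := k) (X := C)
  let g : X' ⟶ C := pullback.fst (C ↘ Spec (CommRingCat.of k)) T'.hom
  have hpb : IsPullback g (X' ↘ Spec (CommRingCat.of Ω)) (C ↘ Spec (CommRingCat.of k))
      (Spec.map (CommRingCat.ofHom (algebraMap k Ω))) := by
    rw [show Spec.map (CommRingCat.ofHom (algebraMap k Ω)) = T'.hom from Spec.map_preimage _]
    exact IsPullback.of_hasPullback _ _
  obtain ⟨e⟩ : Nonempty ((Scheme.Modules.pullback (PicF.XTmap (C ↘ Spec (CommRingCat.of k)) g')).obj E ≅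
      (Scheme.Modules.pullback g).obj (out v)) := cl_eq_iff.1 (by
    change PicF.pullCl _ (PicF.cl E) = PicF.pullCl g (PicF.cl (out v))
    rw [hE, up, PicClLib.pullCl_comp, cl_out]
    exact congrArg (fun m => PicF.pullCl m v.1.val) (LineDesc.Rig.XTmap_fst g'))
  haveI : IsProper (X' ↘ Spec (CommRingCat.of Ω)) := inferInstanceAs (IsProper (pullback.snd _ T'.hom))
  haveI : Smooth (X' ↘ Spec (CommRingCat.of Ω)) := inferInstanceAs (Smooth (pullback.snd _ T'.hom))
  haveI : GeometricallyConnected (X' ↘ Spec (CommRingCat.of Ω)) :=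
    inferInstanceAs (GeometricallyConnected (pullback.snd _ T'.hom))
  haveI : IsIntegral X' := CurveStable.isIntegral_of_geometricallyConnected (k := Ω)
  exact (CurveRR.deg_congr Ω e 1).trans
    (CurveBC.deg_eq k Ω g hpb (out v) (ProjUPX.isQCoh_of_isInvertible (isInvertible_out v)) 1)

/-- A family with a class of degree zero is admissible. -/
theorem ok_of {v : Pc C} {E : (PicF.XT (C ↘ Spec (CommRingCat.of k)) (𝟙_ (Over (Spec (CommRingCat.of k))))).Modules}
    (hv : dg k v = 0) (hE : PicF.cl E = up k v) :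
    (ModFun.PicDeg (C ↘ Spec (CommRingCat.of k)) 0).ok (𝟙_ (Over (Spec (CommRingCat.of k)))) E := by
  refine ⟨⟨trivial, InvEnd.isFinLocFreeOfRank_one ?_⟩, fun Ω _ _ t => (deg_fibre k hE Ω t).trans hv⟩
  obtain ⟨e⟩ := cl_eq_iff.1 ((cl_upMod k v).trans hE.symm)
  exact PicMul.isInvertible_of_iso e (PicClLib.isInvertible_pullback _ (isInvertible_out v))

/-- An admissible family has a class of degree zero. -/
theorem exists_up {E : (PicF.XT (C ↘ Spec (CommRingCat.of k)) (𝟙_ (Over (Spec (CommRingCat.of k))))).Modules}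
    (h : (ModFun.PicDeg (C ↘ Spec (CommRingCat.of k)) 0).ok (𝟙_ (Over (Spec (CommRingCat.of k)))) E) :
    ∃ v : Pc C, dg k v = 0 ∧ PicF.cl E = up k v := by
  have hinv : PicF.IsInvertible E := CurveDuality.isInvertible_of_rank_one h.1.2
  let v := mk ((Scheme.Modules.pullback (i0 k)).obj E) (PicClLib.isInvertible_pullback _ hinv)
  have hv : PicF.cl E = up k v := by
    rw [up, mk_val]
    change _ = PicF.pullCl (q0 k) (PicF.pullCl (i0 k) (PicF.cl E))
    rw [PicClLib.pullCl_comp, q0_i0, PicClLib.pullCl_id]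
  exact ⟨v, (deg_fibre k hv k (𝟙 _)).symm.trans (h.2 k (𝟙 _)), hv⟩

section Jac

variable {J : Over (Spec (CommRingCat.of k))} [GrpObj J] [IsCommMonObj J]
  {ψ : (ModFun.PicDeg (C ↘ Spec (CommRingCat.of k)) 0).Hom ⊤ J}
  (hJ : Jac.IsJacobian (C ↘ Spec (CommRingCat.of k)) ⊤ J ψ)

theorem r_of_cl {T : Over (Spec (CommRingCat.of k))} {E E' : (PicF.XT (C ↘ Spec (CommRingCat.of k)) T).Modules}
    (h : PicF.cl E = PicF.cl E') : (ModFun.PicDeg (C ↘ Spec (CommRingCat.of k)) 0).r T E E' := by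
  refine ⟨Coh.structureModule _, InvX.isInvertible_structureModule, cl_eq_iff.1 ?_⟩
  refine Eq.trans ?_ (cl_tensor _ _).symm
  rw [← h]
  change PicF.cl E = PicF.cl E * PicF.pullCl _ 1
  rw [pullCl_one, mul_one]

theorem cl_of_r {E E' : (PicF.XT (C ↘ Spec (CommRingCat.of k)) (𝟙_ (Over (Spec (CommRingCat.of k))))).Modules}
    (h : (ModFun.PicDeg (C ↘ Spec (CommRingCat.of k)) 0).r (𝟙_ (Over (Spec (CommRingCat.of k)))) E E') :
    PicF.cl E = PicF.cl E' := by
  obtain ⟨M, hM, ⟨e⟩⟩ := h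
  refine ((cl_eq_iff.2 ⟨e⟩).trans ((cl_tensor _ _).trans ?_)).symm
  have hM1 : PicF.cl M = 1 := AVDualCx.trivial_of_isLocalRing (C := k) hM
  change PicF.cl E * PicF.pullCl _ (PicF.cl M) = _
  rw [hM1, pullCl_one, mul_one]

/-- The classes of degree zero. -/
def Z0 : Subgroup (Pc C) where
  carrier := {v | dg k v = 0}
  one_mem' := dg_one k
  mul_mem' {a b} ha hb := (dg_mul k hdim a b).trans (by rw [show dg k a = 0 from ha, show dg k b = 0 from hb, add_zero])
  inv_mem' {a} ha := (dg_inv k hdim a).trans (by rw [show dg k a = 0 from ha, neg_zero])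

theorem mem_Z0 {v : Pc C} : v ∈ Z0 k hdim ↔ dg k v = 0 := Iff.rfl

/-- The point of a class of degree zero. -/
def th (ψ : (ModFun.PicDeg (C ↘ Spec (CommRingCat.of k)) 0).Hom ⊤ J) (v : Z0 k hdim) :
    𝟙_ (Over (Spec (CommRingCat.of k))) ⟶ J :=
  ψ.app _ (upMod k v.1) trivial (ok_of k v.2 (cl_upMod k v.1))

theorem app_eq_th {E : (PicF.XT (C ↘ Spec (CommRingCat.of k)) (𝟙_ (Over (Spec (CommRingCat.of k))))).Modules}
    (hP : (⊤ : ObjectProperty (Over (Spec (CommRingCat.of k)))) (𝟙_ (Over (Spec (CommRingCat.of k)))))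
    (h : (ModFun.PicDeg (C ↘ Spec (CommRingCat.of k)) 0).ok (𝟙_ (Over (Spec (CommRingCat.of k)))) E)
    (v : Z0 k hdim) (hE : PicF.cl E = up k v.1) : ψ.app _ E hP h = th k hdim ψ v :=
  ψ.resp _ _ _ _ _ (r_of_cl k (hE.trans (cl_upMod k v.1).symm))

include hJ in
theorem th_mul (v w : Z0 k hdim) : th k hdim ψ (v * w) = th k hdim ψ v * th k hdim ψ w := by
  refine hJ.mul _ _ _ _ _ _ _ _ (cl_eq_iff.1 ?_)
  refine (cl_upMod k _).trans ((Eq.trans ?_ (cl_tensor _ _).symm))
  rw [cl_upMod, cl_upMod, ← up_mul]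
  rfl

/-- The points of the Jacobian are the classes of degree zero. -/
def theta (hJ : Jac.IsJacobian (C ↘ Spec (CommRingCat.of k)) ⊤ J ψ) :
    Z0 k hdim ≃* (𝟙_ (Over (Spec (CommRingCat.of k))) ⟶ J) :=
  MulEquiv.ofBijective ({ toFun := th k hdim ψ, map_mul' := th_mul k hdim hJ } :
      Z0 k hdim →ₙ* (𝟙_ (Over (Spec (CommRingCat.of k))) ⟶ J))
    ⟨fun v w h => Subtype.ext (up_injective k (by
        rw [← cl_upMod, ← cl_upMod]
        exact cl_of_r k ((hJ.coarse.2.2 k (𝟙 _) trivial).2 _ _ _ _ h))),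
      fun a => by
        obtain ⟨E, hE, rfl⟩ := (hJ.coarse.2.2 k (𝟙 _) trivial).1 a
        obtain ⟨v, hv, hE'⟩ := exists_up k hE
        exact ⟨⟨v, hv⟩, (app_eq_th k hdim trivial hE ⟨v, hv⟩ hE').symm⟩⟩

theorem theta_apply (v : Z0 k hdim) : theta k hdim hJ v = th k hdim ψ v := rfl

/-- The closed point under a point. -/
def pt (P : 𝟙_ (Over (Spec (CommRingCat.of k))) ⟶ Over.mk (C ↘ Spec (CommRingCat.of k))) : Pt C :=
  ⟨(P.left : Spec (CommRingCat.of k) ⟶ C) (IsLocalRing.closedPoint k),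
    (pointEquivClosedPoint (C ↘ Spec (CommRingCat.of k)) ⟨P.left, Over.w P⟩).2⟩

theorem pt_injective : Function.Injective (pt k (C := C)) := fun P Q h => Over.OverMorphism.ext
  (rat_ext (C ↘ Spec (CommRingCat.of k)) (Over.w P) (Over.w Q) (congrArg Subtype.val h))

theorem exists_pt (x : Pt C) : ∃ P, pt k P = x :=
  ⟨Over.homMk (pointOfClosedPoint (C ↘ Spec (CommRingCat.of k)) x.1 x.2) (pointOfClosedPoint_comp _ _ _),
    Subtype.ext (pointOfClosedPoint_apply (C ↘ Spec (CommRingCat.of k)) x.1 x.2 _)⟩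

/-- The base point. -/
abbrev bpt (σ : Spec (CommRingCat.of k) ⟶ C) (hσ : σ ≫ (C ↘ Spec (CommRingCat.of k)) = 𝟙 _) : Pt C :=
  pt k (Over.homMk σ hσ)

theorem cl_ker (P : 𝟙_ (Over (Spec (CommRingCat.of k))) ⟶ Over.mk (C ↘ Spec (CommRingCat.of k))) :
    PicF.cl (ClSub.idealMod (P.left : Spec (CommRingCat.of k) ⟶ C).ker) = (O k hdim (pt k P))⁻¹.1.val := by
  let p : Spec (CommRingCat.of k) ⟶ C := P.left
  have hp : p ≫ (C ↘ Spec (CommRingCat.of k)) = 𝟙 _ := Over.w P
  haveI : IsClosedImmersion p := isClosedImmersion_of_comp_eq_id _ _ hp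
  rw [O_inv_val]
  exact congrArg (fun I => PicF.cl (ClSub.idealMod I)) (CurveAlgEqLib.ker_point k p (pt k P).2 rfl)

include hdim in
theorem mem_Z0_div (x y : Pt C) : O k hdim x / O k hdim y ∈ Z0 k hdim := by
  rw [mem_Z0, dg_div k hdim, dg_O, dg_O]; rfl

include hdim in
/-- The Abel map on points. -/
theorem point_comp_abel {σ : Spec (CommRingCat.of k) ⟶ C} (hσ : σ ≫ (C ↘ Spec (CommRingCat.of k)) = 𝟙 _)
    {j : Over.mk (C ↘ Spec (CommRingCat.of k)) ⟶ J}
    (hj : Jac.IsAbelJacobiAt (C ↘ Spec (CommRingCat.of k)) σ ψ j)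
    (P : 𝟙_ (Over (Spec (CommRingCat.of k))) ⟶ Over.mk (C ↘ Spec (CommRingCat.of k))) :
    P ≫ j = th k hdim ψ ⟨_, mem_Z0_div k hdim (pt k P) (bpt k σ hσ)⟩ := by
  obtain ⟨hP, L, hL, ⟨hLi, ⟨eL⟩⟩, rfl⟩ := hj
  haveI := CurveAlgEqLib.smoothOfRelativeDimension_one (k := k) hdim
  let f := C ↘ Spec (CommRingCat.of k)
  let I := 𝟙_ (Over (Spec (CommRingCat.of k)))
  let h := PicF.XTmap f P
  have hsct : GenusOneX.sct f P ≫ h = P.left ≫ pullback.diagonal f := by
    refine pullback.hom_ext ?_ ?_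
    · rw [Category.assoc, show h ≫ pullback.fst f (Over.mk f).hom = pullback.fst f I.hom from LineDesc.Rig.XTmap_fst P,
        pullback.lift_fst, Category.assoc]
      exact (congrArg (P.left ≫ ·) (pullback.diagonal_fst f)).trans (Category.comp_id _) |>.symm
    · rw [Category.assoc, show h ≫ pullback.snd f (Over.mk f).hom = pullback.snd f I.hom ≫ P.left from
          LineDesc.Rig.XTmap_snd P, ← Category.assoc, pullback.lift_snd, Category.assoc]
      exact (Category.id_comp _).trans ((congrArg (P.left ≫ ·) (pullback.diagonal_snd f)).trans (Category.comp_id _)).symm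
  have e1 : (pullback.diagonal f).ker.comap h = (GenusOneX.sct f P).ker :=
    GenusOneX.comap_ker_section (q := PicF.XTproj f I) (f := PicF.XTproj f (Over.mk f)) (g := P.left)
      (LineDesc.Rig.isPullback_XTmap P) (pullback.diagonal_snd f) (GenusOneX.sct_proj f P) hsct
  have e2 : (P.left : Spec (CommRingCat.of k) ⟶ C).ker.comap (q0 k) = (GenusOneX.sct f P).ker :=
    GenusOneX.comap_ker_section (q := PicF.XTproj f I) (g := 𝟙 (Spec (CommRingCat.of k)))
      (IsPullback.of_hasPullback f I.hom) (Over.w P) (GenusOneX.sct_proj f P)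
      ((pullback.lift_fst _ _ _).trans (Category.id_comp _).symm)
  have hΔ : PicF.IsInvertible (ClSub.idealMod (pullback.diagonal f).ker) :=
    GenusOneX.isInvertible_ker (PicF.XTproj f (Over.mk f)) (pullback.diagonal_snd f)
  have hs : PicF.IsInvertible (ClSub.idealMod (GenusOneX.sct f P).ker) :=
    GenusOneX.isInvertible_ker (PicF.XTproj f I) (GenusOneX.sct_proj f P)
  have hPk : PicF.IsInvertible (ClSub.idealMod (P.left : Spec (CommRingCat.of k) ⟶ C).ker) :=
    GenusOneX.isInvertible_ker f (Over.w P)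
  obtain ⟨b1⟩ := CurveAlgEqLib.nonempty_pullback_idealMod h hΔ (e1 ▸ hs)
  obtain ⟨b2⟩ := CurveAlgEqLib.nonempty_pullback_idealMod (q0 k) hPk (e2 ▸ hs)
  let v : Z0 k hdim := ⟨_, mem_Z0_div k hdim (pt k P) (bpt k σ hσ)⟩
  let E := (Scheme.Modules.pullback h).obj L
  have hσ' := cl_ker k hdim (Over.homMk σ hσ : 𝟙_ (Over (Spec (CommRingCat.of k))) ⟶ Over.mk f)
  have hcl : PicF.cl E = up k v.1 := by
    have h1 : PicF.cl E * up k (O k hdim (pt k P))⁻¹ = up k (O k hdim (bpt k σ hσ))⁻¹ := by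
      have h2 : up k (O k hdim (pt k P))⁻¹ = PicF.cl (ClSub.idealMod (GenusOneX.sct f P).ker) := by
        rw [up, ← cl_ker k hdim P, ← e2]
        exact cl_eq_iff.2 ⟨b2⟩
      have h3 : PicF.cl (ClSub.idealMod (GenusOneX.sct f P).ker) =
          PicF.pullCl h (PicF.cl (ClSub.idealMod (pullback.diagonal f).ker)) := by
        rw [← e1]
        exact (cl_eq_iff.2 ⟨b1⟩).symm
      rw [h2, h3]
      refine (pullCl_mul (X := PicF.XT f (Over.mk f)) h (PicF.cl L) _).symm.trans ?_
      have h4 : PicF.cl L * PicF.cl (Y := PicF.XT f (Over.mk f)) (ClSub.idealMod (pullback.diagonal f).ker) =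
          PicF.pullCl (pullback.fst f f) (PicF.cl (ClSub.idealMod σ.ker)) :=
        (cl_tensor _ _).symm.trans (cl_eq_iff.2 ⟨eL⟩)
      rw [h4, show PicF.cl (ClSub.idealMod σ.ker) = _ from hσ', up, PicClLib.pullCl_comp]
      exact congrArg (fun m => PicF.pullCl m _) (LineDesc.Rig.XTmap_fst P)
    calc PicF.cl E = PicF.cl E * up k ((O k hdim (pt k P))⁻¹ * O k hdim (pt k P)) := by
          rw [inv_mul_cancel]
          exact ((congrArg (PicF.cl E * ·) (pullCl_one (q0 k))).trans (mul_one _)).symm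
      _ = up k v.1 := by
          rw [up_mul, ← mul_assoc, h1, ← up_mul]
          exact congrArg (up k) (show _ = O k hdim (pt k P) / O k hdim (bpt k σ hσ) by rw [div_eq_mul_inv, mul_comm])
  exact (ψ.natural P L trivial trivial hL (ok_of k v.2 hcl)).symm.trans
    (app_eq_th k hdim trivial (ok_of k v.2 hcl) v hcl)

end Jac

end Groth.Agent.JacVarLib
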