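import Groth.Agent.JacVarLib.Extra
import Mathlib.AlgebraicGeometry.Morphisms.Proper

/-!
# Images of powers of a curve in its Jacobian
-/

set_option autoImplicit false
set_option maxHeartbeats 1600000
set_option linter.style.haveILetI false
set_option linter.unusedSectionVars false
set_option backward.isDefEq.respectTransparency false
set_option backward.isDefEq.respectTransparency.types false

universe u

open CategoryTheory CategoryTheory.Limits AlgebraicGeometry TopologicalSpace Opposite
  MonoidalCategory CartesianMonoidalCategory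

noncomputable section

namespace Groth.Agent.JacVarLib

open Groth.Agent Groth.Agent.H23 Groth.Agent.H23.PicMul Groth.Agent.CurvePoint
open scoped Groth.Agent.H23.PicMul MonObj

variable (k : Type u) [Field k]

/-- The rational points. -/
abbrev KP (J : Over (Spec (CommRingCat.of k))) : Type u := 𝟙_ (Over (Spec (CommRingCat.of k))) ⟶ J

/-- The image of the unique point. -/
abbrev img {J : Over (Spec (CommRingCat.of k))} (a : KP k J) : J.left :=
  (a.left : Spec (CommRingCat.of k) ⟶ J.left) (IsLocalRing.closedPoint k)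

section Top

variable {J Y : Over (Spec (CommRingCat.of k))}

theorem img_injective : Function.Injective (img k : KP k J → J.left) := fun a b h =>
  Over.OverMorphism.ext (rat_ext J.hom (Over.w a) (Over.w b) h)

theorem forall_img {a : KP k J} {S : Set J.left} : (∀ p, a.left.base p ∈ S) ↔ img k a ∈ S := by
  refine ⟨fun h => h _, fun h p => ?_⟩
  haveI : Subsingleton ↥(𝟙_ (Over (Spec (CommRingCat.of k)))).left := inferInstanceAs (Subsingleton (PrimeSpectrum k))
  rwa [Subsingleton.elim p (IsLocalRing.closedPoint k : Spec (CommRingCat.of k))]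

variable [IsAlgClosed k] [IsSeparated J.hom] [IsProper Y.hom] (h : Y ⟶ J)

theorem isClosed_range : IsClosed (Set.range h.left.base) := by
  haveI : IsProper (h.left ≫ J.hom) := by rw [Over.w h]; infer_instance
  haveI : IsProper h.left := IsProper.of_comp h.left J.hom
  exact h.left.isClosedMap.isClosed_range

theorem exists_kp {y : Y.left} (hy : IsClosed ({y} : Set Y.left)) : ∃ b : KP k Y, img k b = y :=
  ⟨Over.homMk (pointOfClosedPoint Y.hom y hy) (pointOfClosedPoint_comp _ _ _), pointOfClosedPoint_apply Y.hom y hy _⟩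

theorem mem_range_iff (a : KP k J) : img k a ∈ Set.range h.left.base ↔ ∃ b : KP k Y, b ≫ h = a := by
  refine ⟨fun hm => ?_, fun ⟨b, hb⟩ => ⟨img k b, by rw [← hb]; rfl⟩⟩
  haveI : JacobsonSpace Y.left := LocallyOfFiniteType.jacobsonSpace Y.hom
  let p : Spec (CommRingCat.of k) ⟶ J.left := a.left
  haveI : IsClosedImmersion p := isClosedImmersion_of_comp_eq_id J.hom p (Over.w a)
  have hc : IsClosed ({img k a} : Set J.left) := by
    have := p.isClosedEmbedding.isClosed_range
    rwa [Set.range_eq_singleton_iff.2 fun q => congrArg p (Subsingleton.elim q (IsLocalRing.closedPoint k))] at this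
  obtain ⟨y, hy⟩ := hm
  obtain ⟨z, hz, hzc⟩ := nonempty_inter_closedPoints (Z := h.left.base ⁻¹' {img k a}) ⟨y, hy⟩
    (hc.preimage h.left.continuous).isLocallyClosed
  obtain ⟨b, hb⟩ := exists_kp k hzc
  exact ⟨b, img_injective k ((congrArg h.left.base hb).trans hz)⟩

theorem subset_of_kp {Z Z' : Set J.left} (hZ : IsClosed Z) (hZ' : IsClosed Z') (hsub : Z ⊆ Set.range h.left.base)
    (hp : ∀ a : KP k J, img k a ∈ Z → img k a ∈ Z') : Z ⊆ Z' := by
  haveI : JacobsonSpace Y.left := LocallyOfFiniteType.jacobsonSpace Y.hom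
  have hs : h.left.base ⁻¹' Z ⊆ h.left.base ⁻¹' Z' := by
    refine (closure_inter_closedPoints (hZ.preimage h.left.continuous)).symm.trans_subset ?_
    refine closure_minimal ?_ (hZ'.preimage h.left.continuous)
    rintro y ⟨hy, hyc⟩
    obtain ⟨b, rfl⟩ := exists_kp k hyc
    exact hp (b ≫ h) hy
  intro p hpZ
  obtain ⟨y, rfl⟩ := hsub hpZ
  exact hs hpZ

theorem eq_of_kp {Y' : Over (Spec (CommRingCat.of k))} [IsProper Y'.hom] (h' : Y' ⟶ J)
    (hp : ∀ a : KP k J, img k a ∈ Set.range h.left.base ↔ img k a ∈ Set.range h'.left.base) :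
    Set.range h.left.base = Set.range h'.left.base :=
  (subset_of_kp k h (isClosed_range k h) (isClosed_range k h') subset_rfl fun a => (hp a).1).antisymm
    (subset_of_kp k h' (isClosed_range k h') (isClosed_range k h) subset_rfl fun a => (hp a).2)

end Top

variable {C : Scheme.{u}} [C.Over (Spec (CommRingCat.of k))]

/-- The power of the curve as test scheme. -/
abbrev PW (r : ℕ) : Over (Spec (CommRingCat.of k)) :=
  Over.mk (WidePullback.base fun (_ : Fin r) => (C ↘ Spec (CommRingCat.of k)))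

/-- The projections. -/
abbrev pr (r : ℕ) (i : Fin r) : PW k (C := C) r ⟶ Over.mk (C ↘ Spec (CommRingCat.of k)) :=
  Over.homMk (WidePullback.π (fun (_ : Fin r) => (C ↘ Spec (CommRingCat.of k))) i)
    (WidePullback.π_arrow (fun (_ : Fin r) => (C ↘ Spec (CommRingCat.of k))) i)

variable {J : Over (Spec (CommRingCat.of k))} [GrpObj J] [IsCommMonObj J]

/-- The sum map of an Abel map. -/
abbrev sm (j : Over.mk (C ↘ Spec (CommRingCat.of k)) ⟶ J) (r : ℕ) : PW k (C := C) r ⟶ J :=
  (List.ofFn fun i : Fin r => pr k r i ≫ j).prod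

theorem comp_list_prod {Y Y' : Over (Spec (CommRingCat.of k))} (y : Y' ⟶ Y) (l : List (Y ⟶ J)) :
    y ≫ l.prod = (l.map (y ≫ ·)).prod := by
  induction l with
  | nil => simp [MonObj.comp_one]
  | cons a l ih => simp [MonObj.comp_mul, ih]

theorem kp_comp_transl {Y : Over (Spec (CommRingCat.of k))} (y : Y ⟶ J) (a : KP k J) :
    y ≫ Jac.transl J a = y * (toUnit Y ≫ a) := by
  rw [Jac.transl, MonObj.comp_mul, Category.comp_id, comp_toUnit_assoc]

variable [IsAlgClosed k]

theorem isSeparated_J : IsSeparated J.hom := GrpSchLib.CharZeroPts.isSeparated_grp J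

variable [IsProper (C ↘ Spec (CommRingCat.of k))]

instance isProper_PW (r : ℕ) : IsProper (PW k (C := C) r).hom := by
  induction r with
  | zero =>
    haveI : IsIso (PW k (C := C) 0).hom := by
      refine ⟨WidePullback.lift (𝟙 _) Fin.elim0 (fun i => i.elim0), ?_, WidePullback.lift_base _ _ _ _⟩
      refine WidePullback.hom_ext _ _ _ (fun i => i.elim0) ?_
      rw [Category.assoc, WidePullback.lift_base, Category.comp_id]
      exact (Category.id_comp _).symm
    infer_instance
  | succ n ih =>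
    let f := C ↘ Spec (CommRingCat.of k)
    let b := WidePullback.base fun (_ : Fin n) => f
    let toP : widePullback _ (fun _ : Fin (n + 1) => C) (fun _ => f) ⟶ pullback b f :=
      pullback.lift (WidePullback.lift (WidePullback.base _) (fun i => WidePullback.π _ i.succ)
          (fun i => WidePullback.π_arrow (fun _ : Fin (n + 1) => f) i.succ)) (WidePullback.π _ 0)
        ((WidePullback.lift_base _ _ _ _).trans (WidePullback.π_arrow (fun _ : Fin (n + 1) => f) 0).symm)
    let fromP : pullback b f ⟶ widePullback _ (fun _ : Fin (n + 1) => C) (fun _ => f) :=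
      WidePullback.lift (pullback.fst b f ≫ b)
        (Fin.cases (pullback.snd b f) fun i => pullback.fst b f ≫ WidePullback.π _ i)
        (Fin.cases pullback.condition.symm fun i => by
          rw [Fin.cases_succ, Category.assoc, WidePullback.π_arrow])
    have h1 : toP ≫ fromP = 𝟙 _ := by
      refine WidePullback.hom_ext _ _ _ (Fin.cases ?_ fun i => ?_) ?_
      · rw [Category.assoc, WidePullback.lift_base, ← Category.assoc, pullback.lift_fst, WidePullback.lift_base,
          Category.id_comp]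
      · rw [Category.assoc, WidePullback.lift_π, Fin.cases_zero, pullback.lift_snd, Category.id_comp]
      · rw [Category.assoc, WidePullback.lift_π, Fin.cases_succ, ← Category.assoc, pullback.lift_fst,
          WidePullback.lift_π, Category.id_comp]
    have h2 : fromP ≫ toP = 𝟙 _ := by
      refine pullback.hom_ext (WidePullback.hom_ext _ _ _ (fun i => ?_) ?_) ?_
      · rw [Category.assoc, Category.assoc, pullback.lift_fst_assoc, WidePullback.lift_π, WidePullback.lift_π,
          Fin.cases_succ, Category.id_comp]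
      · rw [Category.assoc, Category.assoc, pullback.lift_fst_assoc, WidePullback.lift_base, WidePullback.lift_base,
          Category.id_comp]
      · rw [Category.assoc, pullback.lift_snd, WidePullback.lift_π, Fin.cases_zero, Category.id_comp]
    let e : widePullback _ (fun _ : Fin (n + 1) => C) (fun _ => f) ≅ pullback b f := ⟨toP, fromP, h1, h2⟩
    have hb : IsProper b := ih
    have he : (WidePullback.base fun _ : Fin (n + 1) => f) = e.hom ≫ pullback.fst b f ≫ b := by
      change _ = toP ≫ _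
      rw [pullback.lift_fst_assoc, WidePullback.lift_base]
    change IsProper (WidePullback.base fun _ : Fin (n + 1) => f)
    rw [he]
    haveI : IsProper f := inferInstanceAs (IsProper (C ↘ Spec (CommRingCat.of k)))
    haveI hp : IsProper (pullback.fst b f) := MorphismProperty.pullback_fst b f inferInstance
    haveI : IsIso e.hom := Iso.isIso_hom e
    exact MorphismProperty.RespectsIso.precomp @IsProper e.hom _ (MorphismProperty.comp_mem _ _ _ hp hb)

variable [IsIntegral C] [Smooth (C ↘ Spec (CommRingCat.of k))] [GeometricallyConnected (C ↘ Spec (CommRingCat.of k))]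
  (hdim : topologicalKrullDim C = 1) (σ : Spec (CommRingCat.of k) ⟶ C) (hσ : σ ≫ (C ↘ Spec (CommRingCat.of k)) = 𝟙 _)
  {ψ : (ModFun.PicDeg (C ↘ Spec (CommRingCat.of k)) 0).Hom ⊤ J}
  (hJ : Jac.IsJacobian (C ↘ Spec (CommRingCat.of k)) ⊤ J ψ)

/-- The class of the base point. -/
abbrev Os : Pc C := O k hdim (bpt k σ hσ)

/-- The class of a point of the Jacobian. -/
def cls (a : KP k J) : Pc C := ((theta k hdim hJ).symm a).1

theorem dg_cls (a : KP k J) : dg k (cls k hdim hJ a) = 0 := ((theta k hdim hJ).symm a).2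

theorem cls_injective : Function.Injective (cls k hdim hJ) := fun a b h =>
  (theta k hdim hJ).symm.injective (Subtype.ext h)

theorem exists_cls {v : Pc C} (hv : dg k v = 0) : ∃ a, cls k hdim hJ a = v :=
  ⟨theta k hdim hJ ⟨v, hv⟩, congrArg Subtype.val ((theta k hdim hJ).symm_apply_apply _)⟩

theorem cls_mul (a b : KP k J) : cls k hdim hJ (a * b) = cls k hdim hJ a * cls k hdim hJ b :=
  congrArg Subtype.val (map_mul (theta k hdim hJ).symm a b)

theorem cls_one : cls k hdim hJ 1 = 1 := congrArg Subtype.val (map_one (theta k hdim hJ).symm)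

theorem cls_inv (a : KP k J) : cls k hdim hJ a⁻¹ = (cls k hdim hJ a)⁻¹ :=
  eq_inv_of_mul_eq_one_left (by rw [← cls_mul, inv_mul_cancel, cls_one])

variable {j : Over.mk (C ↘ Spec (CommRingCat.of k)) ⟶ J}
  (hj : Jac.IsAbelJacobiAt (C ↘ Spec (CommRingCat.of k)) σ ψ j)

include hj in
theorem cls_point (P : KP k (Over.mk (C ↘ Spec (CommRingCat.of k)))) :
    cls k hdim hJ (P ≫ j) = O k hdim (pt k P) / Os k hdim σ hσ := by
  rw [cls, point_comp_abel k hdim hσ hj P, ← theta_apply k hdim hJ, MulEquiv.symm_apply_apply]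

include hj in
theorem cls_comp_sm (r : ℕ) (y : KP k (PW k r)) :
    cls k hdim hJ (y ≫ sm k j r) = (∏ i, O k hdim (pt k (y ≫ pr k r i))) / Os k hdim σ hσ ^ r := by
  rw [comp_list_prod, List.map_ofFn]
  let φ : (KP k J) →* Pc C := { toFun := cls k hdim hJ, map_one' := cls_one k hdim hJ, map_mul' := cls_mul k hdim hJ }
  have h := map_list_prod φ (List.ofFn ((y ≫ ·) ∘ fun i : Fin r => pr k r i ≫ j))
  refine h.trans ?_
  rw [List.map_ofFn, List.prod_ofFn]
  refine (Finset.prod_congr rfl (g := fun i => O k hdim (pt k (y ≫ pr k r i)) / Os k hdim σ hσ) fun i _ => ?_).trans ?_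
  · exact (congrArg (cls k hdim hJ) (Category.assoc y (pr k r i) j).symm).trans (cls_point k hdim σ hσ hJ hj _)
  · rw [Finset.prod_div_distrib, Finset.prod_const, Finset.card_univ, Fintype.card_fin]

theorem exists_tuple {r : ℕ} (x : Fin r → Pt C) : ∃ y : KP k (PW k r), ∀ i, pt k (y ≫ pr k r i) = x i := by
  choose P hP using fun i => exists_pt k (x i)
  refine ⟨Over.homMk (WidePullback.lift (𝟙 _) (fun i => (P i).left) fun i => Over.w (P i))
    (WidePullback.lift_base _ _ _ _), fun i => ?_⟩
  rw [← hP i]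
  exact congrArg (pt k) (Over.OverMorphism.ext (WidePullback.lift_π _ _ _ _ _))

/-- Membership in a translate of the image. -/
abbrev Mem (r : ℕ) (c a : KP k J) : Prop :=
  0 < hz k (cls k hdim hJ c / cls k hdim hJ a * Os k hdim σ hσ ^ r)

theorem translate_range (j : Over.mk (C ↘ Spec (CommRingCat.of k)) ⟶ J) (r : ℕ) (a : KP k J) :
    (Jac.transl J a).left.base '' Set.range (sm k j r).left.base =
      Set.range (sm k j r ≫ Jac.transl J a).left.base := by
  rw [← Set.range_comp]
  rfl

include hj in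
theorem mem_transl_iff (r : ℕ) (c a : KP k J) :
    img k c ∈ (Jac.transl J a).left.base '' Set.range (sm k j r).left.base ↔ Mem k hdim σ hσ hJ r c a := by
  haveI := isSeparated_J k (J := J)
  rw [translate_range, mem_range_iff k]
  have hdg : dg k (cls k hdim hJ c / cls k hdim hJ a * Os k hdim σ hσ ^ r) = r := by
    rw [dg_mul k hdim, dg_div k hdim, dg_cls, dg_cls, dg_pow k hdim, dg_O]; simp
  have key : ∀ y : KP k (PW k r), cls k hdim hJ (y ≫ sm k j r ≫ Jac.transl J a) =
      (∏ i, O k hdim (pt k (y ≫ pr k r i))) / Os k hdim σ hσ ^ r * cls k hdim hJ a := fun y => by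
    rw [← Category.assoc, kp_comp_transl, cls_mul, cls_comp_sm k hdim σ hσ hJ hj, toUnit_unit, Category.id_comp]
  constructor
  · rintro ⟨y, rfl⟩
    refine hz_pos_of_eff k hdim (n := r) ⟨fun i => pt k (y ≫ pr k r i), ?_⟩
    rw [key, mul_div_cancel_right, div_mul_cancel]
  · intro h
    obtain ⟨x, hx⟩ := eff_of_hz_pos k hdim hdg h
    obtain ⟨y, hy⟩ := exists_tuple k x
    refine ⟨y, cls_injective k hdim hJ ?_⟩
    rw [key]
    simp only [hy, ← hx]
    rw [mul_div_cancel_right, div_mul_cancel]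

include hj in
theorem mem_range_sm (r : ℕ) (c : KP k J) :
    img k c ∈ Set.range (sm k j r).left.base ↔ 0 < hz k (cls k hdim hJ c * Os k hdim σ hσ ^ r) := by
  have h := mem_transl_iff k hdim σ hσ hJ hj r c 1
  have e : Jac.transl J (1 : KP k J) = 𝟙 J := by rw [Jac.transl, MonObj.comp_one, mul_one]
  rw [e, Mem, cls_one, div_one] at h
  rw [← h]
  exact iff_of_eq (congrArg (img k c ∈ ·) (Set.image_id _).symm)

theorem isClosed_transl (j : Over.mk (C ↘ Spec (CommRingCat.of k)) ⟶ J) (r : ℕ) (a : KP k J) :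
    IsClosed ((Jac.transl J a).left.base '' Set.range (sm k j r).left.base) := by
  haveI := isSeparated_J k (J := J)
  rw [translate_range]
  exact isClosed_range k _

theorem transl_subset_iff (j : Over.mk (C ↘ Spec (CommRingCat.of k)) ⟶ J) (r : ℕ) (a : KP k J) {Z : Set J.left}
    (hZ : IsClosed Z) :
    (Jac.transl J a).left.base '' Set.range (sm k j r).left.base ⊆ Z ↔
      ∀ c : KP k J, img k c ∈ (Jac.transl J a).left.base '' Set.range (sm k j r).left.base → img k c ∈ Z := by
  haveI := isSeparated_J k (J := J)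
  refine ⟨fun h c hc => h hc, fun h => ?_⟩
  rw [translate_range] at h ⊢
  exact subset_of_kp k _ (isClosed_range k _) hZ subset_rfl h

end Groth.Agent.JacVarLib

namespace Groth.Agent.JacVarLib

/-- Proves identities in a commutative group. -/
macro "cgroup" : tactic =>
  `(tactic| (apply Additive.ofMul.injective; simp only [ofMul_mul, ofMul_div, ofMul_inv, ofMul_pow, ofMul_one]; abel))

open Groth.Agent Groth.Agent.H23 Groth.Agent.H23.PicMul
open scoped Groth.Agent.H23.PicMul MonObj

variable (k : Type u) [Field k] [IsAlgClosed k] {C : Scheme.{u}} [C.Over (Spec (CommRingCat.of k))]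
  [IsProper (C ↘ Spec (CommRingCat.of k))] [IsIntegral C] [Smooth (C ↘ Spec (CommRingCat.of k))]
  [GeometricallyConnected (C ↘ Spec (CommRingCat.of k))] (hdim : topologicalKrullDim C = 1)

include hdim in
theorem hz_mul_pos {v w : Pc C} (hv : 0 < hz k v) (hw : 0 < hz k w) : 0 < hz k (v * w) := by
  have h1 : 0 ≤ dg k v := by
    by_contra h
    have := hz_of_dg_neg k hdim (v := v) (by omega)
    omega
  have h2 : 0 ≤ dg k w := by
    by_contra h
    have := hz_of_dg_neg k hdim (v := w) (by omega)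
    omega
  obtain ⟨m, hm⟩ := Int.eq_ofNat_of_zero_le h1
  obtain ⟨n, hn⟩ := Int.eq_ofNat_of_zero_le h2
  exact hz_pos_of_eff k hdim (eff_mul k hdim (eff_of_hz_pos k hdim hm hv) (eff_of_hz_pos k hdim hn hw))

end Groth.Agent.JacVarLib

namespace Groth.Agent.JacVarLib

open Groth.Agent Groth.Agent.H23 Groth.Agent.H23.PicMul CategoryTheory.MonoidalCategory CartesianMonoidalCategory
open scoped Groth.Agent.H23.PicMul MonObj

section Reflect

variable (k : Type u) [Field k] {J Y : Over (Spec (CommRingCat.of k))} [GrpObj J] [IsCommMonObj J]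

/-- The reflection through a point. -/
abbrev refl (κ : KP k J) : J ⟶ J := (𝟙 J)⁻¹ ≫ Jac.transl J κ

theorem reflect_range (h : Y ⟶ J) (κ : KP k J) :
    (Jac.transl J κ).left.base '' (((𝟙 J)⁻¹).left.base '' Set.range h.left.base) =
      Set.range (h ≫ refl k κ).left.base := by
  rw [← Set.range_comp, ← Set.range_comp]
  rfl

theorem comp_refl (c κ : KP k J) : c ≫ refl k κ = c⁻¹ * κ := by
  rw [← Category.assoc, GrpObj.comp_inv, Category.comp_id, kp_comp_transl, toUnit_unit, Category.id_comp]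

theorem mem_reflect [IsAlgClosed k] [IsSeparated J.hom] [IsProper Y.hom] (h : Y ⟶ J) (κ c : KP k J) :
    img k c ∈ Set.range (h ≫ refl k κ).left.base ↔ img k (κ * c⁻¹) ∈ Set.range h.left.base := by
  rw [mem_range_iff k, mem_range_iff k]
  refine exists_congr fun b => ?_
  rw [← Category.assoc, comp_refl]
  constructor <;> intro e
  · rw [← e]; cgroup
  · rw [e]; cgroup

end Reflect

variable (k : Type u) [Field k] [IsAlgClosed k] {C : Scheme.{u}} [C.Over (Spec (CommRingCat.of k))]
  [IsProper (C ↘ Spec (CommRingCat.of k))] [IsIntegral C] [Smooth (C ↘ Spec (CommRingCat.of k))]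
  [GeometricallyConnected (C ↘ Spec (CommRingCat.of k))] (hdim : topologicalKrullDim C = 1)
  {J : Over (Spec (CommRingCat.of k))} [GrpObj J] [IsCommMonObj J]
  {σ : Spec (CommRingCat.of k) ⟶ C} (hσ : σ ≫ (C ↘ Spec (CommRingCat.of k)) = 𝟙 _)
  {ψ : (ModFun.PicDeg (C ↘ Spec (CommRingCat.of k)) 0).Hom ⊤ J}
  (hJ : Jac.IsJacobian (C ↘ Spec (CommRingCat.of k)) ⊤ J ψ)

/-- The point of the canonical class. -/
theorem cls_kappa {g : ℕ} (hg : Curv2.genus k C = g) (hg1 : 1 ≤ g)
    {Kf : (PicF.XT (C ↘ Spec (CommRingCat.of k)) (𝟙_ (Over (Spec (CommRingCat.of k))))).Modules}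
    (hKf : Nonempty (Kf ≅ (Scheme.Modules.pullback (pullback.fst (C ↘ Spec (CommRingCat.of k)) (𝟙_ (Over (Spec (CommRingCat.of k)))).hom)).obj
      (CohB1.tensorMod (Omega.sheaf (C ↘ Spec (CommRingCat.of k))) (CohB1.tensorPow (ClSub.idealMod σ.ker) (2 * g - 2)))))
    (hT₁ : (⊤ : ObjectProperty (Over (Spec (CommRingCat.of k)))) (𝟙_ (Over (Spec (CommRingCat.of k)))))
    (hKok : (ModFun.PicDeg (C ↘ Spec (CommRingCat.of k)) 0).ok (𝟙_ (Over (Spec (CommRingCat.of k)))) Kf)
    {κ : KP k J} (hκ : ψ.app (𝟙_ (Over (Spec (CommRingCat.of k)))) Kf hT₁ hKok = κ) :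
    cls k hdim hJ κ = om k hdim / Os k hdim σ hσ ^ (2 * g - 2) := by
  let v : Pc C := om k hdim / Os k hdim σ hσ ^ (2 * g - 2)
  have hv : v ∈ Z0 k hdim := by
    rw [mem_Z0, dg_div k hdim, dg_om, dg_pow k hdim, dg_O, hg, mul_one]
    omega
  have hcl : PicF.cl Kf = up k v := by
    refine (cl_eq_iff.2 hKf).trans ?_
    change PicF.pullCl (q0 k) (PicF.cl (CohB1.tensorMod _ _)) = PicF.pullCl (q0 k) _
    rw [cl_tensor, cl_tensorPow,
      show PicF.cl (ClSub.idealMod σ.ker) = (Os k hdim σ hσ)⁻¹.1.val from cl_ker k hdim (Over.homMk σ hσ),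
      ← Units.val_pow_eq_pow_val, ← SubmonoidClass.coe_pow, inv_pow]
    simp only [v, div_eq_mul_inv, Subgroup.coe_mul, Units.val_mul, om, mk_val]
  rw [← hκ, app_eq_th k hdim hT₁ hKok ⟨v, hv⟩ hcl, cls, ← theta_apply k hdim hJ, MulEquiv.symm_apply_apply]

end Groth.Agent.JacVarLib

namespace Groth.Agent.JacVarLib

open Groth.Agent Groth.Agent.H23 Groth.Agent.H23.PicMul CategoryTheory.MonoidalCategory CartesianMonoidalCategory
open scoped Groth.Agent.H23.PicMul MonObj

variable (k : Type u) [Field k] [IsAlgClosed k] {C C' : Scheme.{u}} [C.Over (Spec (CommRingCat.of k))]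
  [C'.Over (Spec (CommRingCat.of k))] [IsProper (C ↘ Spec (CommRingCat.of k))] [IsProper (C' ↘ Spec (CommRingCat.of k))]

/-- Morphisms agreeing on rational points agree. -/
theorem hom_ext_pts [IsIntegral C] [Smooth (C ↘ Spec (CommRingCat.of k))]
    [GeometricallyConnected (C ↘ Spec (CommRingCat.of k))] [IsIntegral C'] [Smooth (C' ↘ Spec (CommRingCat.of k))]
    [GeometricallyConnected (C' ↘ Spec (CommRingCat.of k))] {a b : Over.mk (C ↘ Spec (CommRingCat.of k)) ⟶ Over.mk (C' ↘ Spec (CommRingCat.of k))}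
    (h : ∀ P : KP k (Over.mk (C ↘ Spec (CommRingCat.of k))), pt k (P ≫ a) = pt k (P ≫ b)) : a = b := by
  let a' : C ⟶ C' := a.left
  let b' : C ⟶ C' := b.left
  haveI : LocallyOfFiniteType (a' ≫ (C' ↘ Spec (CommRingCat.of k))) := by
    rw [show a' ≫ (C' ↘ Spec (CommRingCat.of k)) = C ↘ Spec (CommRingCat.of k) from Over.w a]
    infer_instance
  refine Over.OverMorphism.ext (ext_of_apply_eq (f := a') (g := b') (C' ↘ Spec (CommRingCat.of k)) Set.univ
    isOpen_univ.isLocallyClosed dense_univ (fun z _ hz => ?_) ((Over.w a).trans (Over.w b).symm))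
  obtain ⟨P, hP⟩ := exists_pt k (⟨z, hz⟩ : Pt C)
  rw [show z = (P.left : Spec (CommRingCat.of k) ⟶ C) (IsLocalRing.closedPoint k) from (congrArg Subtype.val hP).symm]
  exact congrArg Subtype.val (h P)

variable [IsIntegral C'] [Smooth (C' ↘ Spec (CommRingCat.of k))] [GeometricallyConnected (C' ↘ Spec (CommRingCat.of k))]
  (hdim' : topologicalKrullDim C' = 1) {σ' : Spec (CommRingCat.of k) ⟶ C'}
  (hσ' : σ' ≫ (C' ↘ Spec (CommRingCat.of k)) = 𝟙 _)
  {J J' : Over (Spec (CommRingCat.of k))} [GrpObj J] [IsCommMonObj J] [GrpObj J'] [IsCommMonObj J']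
  {ψ' : (ModFun.PicDeg (C' ↘ Spec (CommRingCat.of k)) 0).Hom ⊤ J'}
  (hJ' : Jac.IsJacobian (C' ↘ Spec (CommRingCat.of k)) ⊤ J' ψ')
  {j : Over.mk (C ↘ Spec (CommRingCat.of k)) ⟶ J} {j' : Over.mk (C' ↘ Spec (CommRingCat.of k)) ⟶ J'}
  (hj' : Jac.IsAbelJacobiAt (C' ↘ Spec (CommRingCat.of k)) σ' ψ' j') {β : J ⟶ J'}

include hj' in
/-- A Torelli identity on points. -/
theorem torelli_point {α : Over.mk (C ↘ Spec (CommRingCat.of k)) ⟶ Over.mk (C' ↘ Spec (CommRingCat.of k))} {c : KP k J'}
    {s : ℤ} (h : α ≫ j' = (j ≫ β) ^ s * (toUnit (Over.mk (C ↘ Spec (CommRingCat.of k))) ≫ c))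
    (P : KP k (Over.mk (C ↘ Spec (CommRingCat.of k)))) :
    O k hdim' (pt k (P ≫ α)) = cls k hdim' hJ' ((P ≫ j ≫ β) ^ s * c) * Os k hdim' σ' hσ' := by
  have h1 := cls_point k hdim' σ' hσ' hJ' hj' (P ≫ α)
  rw [Category.assoc, h, MonObj.comp_mul, GrpObj.comp_zpow, comp_toUnit_assoc, toUnit_unit, Category.id_comp] at h1
  rw [h1, div_mul_cancel]

include hdim' hσ' hJ' hj' in
theorem torelli_unique (hg' : 2 ≤ Curv2.genus k C') [IsIntegral C] [Smooth (C ↘ Spec (CommRingCat.of k))]
    [GeometricallyConnected (C ↘ Spec (CommRingCat.of k))]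
    {α₁ α₂ : Over.mk (C ↘ Spec (CommRingCat.of k)) ⟶ Over.mk (C' ↘ Spec (CommRingCat.of k))} [IsIso α₂] {c₁ c₂ : KP k J'}
    {s : ℤ} (h₁ : α₁ ≫ j' = (j ≫ β) ^ s * (toUnit (Over.mk (C ↘ Spec (CommRingCat.of k))) ≫ c₁))
    (h₂ : α₂ ≫ j' = (j ≫ β) ^ s * (toUnit (Over.mk (C ↘ Spec (CommRingCat.of k))) ≫ c₂)) :
    α₁ = α₂ ∧ c₁ = c₂ := by
  have key : ∀ P, O k hdim' (pt k (P ≫ α₁)) =
      cls k hdim' hJ' c₁ / cls k hdim' hJ' c₂ * O k hdim' (pt k (P ≫ α₂)) := fun P => by
    rw [torelli_point k hdim' hσ' hJ' hj' h₁, torelli_point k hdim' hσ' hJ' hj' h₂, cls_mul, cls_mul]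
    cgroup
  have hd : cls k hdim' hJ' c₁ / cls k hdim' hJ' c₂ = 1 :=
    eq_one_of_translate k hdim' hg' (by rw [dg_div k hdim', dg_cls, dg_cls, sub_self]) fun z => by
      obtain ⟨P, rfl⟩ := exists_pt k z
      have := key (P ≫ inv α₂)
      rw [Category.assoc (f := P) (g := inv α₂) (h := α₂), IsIso.inv_hom_id, Category.comp_id] at this
      rw [← this]
      exact hz_pos_of_eff k hdim' (eff_O k hdim' _)
  refine ⟨hom_ext_pts k fun P => O_injective k hdim' (by omega) ?_, cls_injective k hdim' hJ' (div_eq_one.1 hd)⟩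
  rw [key, hd, one_mul]

end Groth.Agent.JacVarLib
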