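import Groth.Agent.JacVarLib.W
import Groth.Agent.S1025
import Groth.Agent.IntSym.Bridge
import Groth.Prelude.Def_SymProd
import Groth.Prelude.Def_FGA

/-!
# Openness of conditions on classes of points
-/

set_option autoImplicit false
set_option maxHeartbeats 1600000
set_option linter.style.haveILetI false
set_option linter.unusedSectionVars false
set_option backward.isDefEq.respectTransparency false
set_option backward.isDefEq.respectTransparency.types false

universe u

open CategoryTheory CategoryTheory.Limits AlgebraicGeometry TopologicalSpace Opposite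
  MonoidalCategory CartesianMonoidalCategory

noncomputable section

namespace Groth.Agent.JacVarLib

open Groth.Agent Groth.Agent.H23 Groth.Agent.H23.PicMul Groth.Agent.GenusOneX
open scoped Groth.Agent.H23.PicMul

/-- Pullback of classes. -/
def pullPc {X Y : Scheme.{u}} (g : X ⟶ Y) : Pc Y →* Pc X :=
  MonoidHom.codRestrict ((Units.map (pullHom g)).comp (InvU Y).subtype) (InvU X)
    fun v => PicClLib.isInvertibleCl_pullCl g v.2

theorem pullPc_val {X Y : Scheme.{u}} (g : X ⟶ Y) (v : Pc Y) : (pullPc g v).1.val = PicF.pullCl g v.1.val := rfl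

theorem pullPc_comp {X Y Z : Scheme.{u}} (g : X ⟶ Y) (h : Y ⟶ Z) (v : Pc Z) :
    pullPc g (pullPc h v) = pullPc (g ≫ h) v := ext_val (PicClLib.pullCl_comp g h v.1.val)

variable {X S : Scheme.{u}} (f : X ⟶ S) [IsProper f] [SmoothOfRelativeDimension 1 f] [GeometricallyConnected f]

/-- The class of the ideal of a point. -/
def idPc {T : Over S} (P : T ⟶ Over.mk f) : Pc (PicF.XT f T) :=
  mk (ClSub.idealMod (sct f P).ker) (isInvertible_ker (PicF.XTproj f T) (sct_proj f P))

theorem pullPc_idPc {T T' : Over S} (g : T' ⟶ T) (P : T ⟶ Over.mk f) :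
    pullPc (PicF.XTmap f g) (idPc f P) = idPc f (g ≫ P) := by
  have hs : sct f (g ≫ P) ≫ PicF.XTmap f g = g.left ≫ sct f P := by
    refine pullback.hom_ext ?_ ?_
    · rw [Category.assoc, LineDesc.Rig.XTmap_fst, pullback.lift_fst, Category.assoc, pullback.lift_fst]
      rfl
    · rw [Category.assoc, LineDesc.Rig.XTmap_snd, ← Category.assoc, pullback.lift_snd, Category.assoc,
        pullback.lift_snd, Category.id_comp, Category.comp_id]
  have e : (sct f P).ker.comap (PicF.XTmap f g) = (sct f (g ≫ P)).ker :=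
    comap_ker_section (q := PicF.XTproj f T') (f := PicF.XTproj f T) (g := g.left)
      (LineDesc.Rig.isPullback_XTmap g) (sct_proj f P) (sct_proj f (g ≫ P)) hs
  obtain ⟨b⟩ := CurveAlgEqLib.nonempty_pullback_idealMod (PicF.XTmap f g)
    (isInvertible_ker (PicF.XTproj f T) (sct_proj f P))
    (e.symm ▸ isInvertible_ker (PicF.XTproj f T') (sct_proj f (g ≫ P)))
  refine ext_val ?_
  rw [pullPc_val, idPc, idPc, mk_val, mk_val, ← e]
  exact cl_eq_iff.2 ⟨b⟩

section Field

variable (k : Type u) [Field k] [IsAlgClosed k] {C : Scheme.{u}} [C.Over (Spec (CommRingCat.of k))]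
  [IsProper (C ↘ Spec (CommRingCat.of k))] [IsIntegral C] [Smooth (C ↘ Spec (CommRingCat.of k))]
  [GeometricallyConnected (C ↘ Spec (CommRingCat.of k))]
  [SmoothOfRelativeDimension 1 (C ↘ Spec (CommRingCat.of k))] (hdim : topologicalKrullDim C = 1)

theorem idPc_base (Q : KP k (Over.mk (C ↘ Spec (CommRingCat.of k)))) :
    idPc (C ↘ Spec (CommRingCat.of k)) Q = pullPc (q0 k) (O k hdim (pt k Q))⁻¹ := by
  let f := C ↘ Spec (CommRingCat.of k)
  let I := 𝟙_ (Over (Spec (CommRingCat.of k)))
  have e : (Q.left : Spec (CommRingCat.of k) ⟶ C).ker.comap (q0 k) = (sct f Q).ker :=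
    comap_ker_section (q := PicF.XTproj f I) (g := 𝟙 (Spec (CommRingCat.of k)))
      (IsPullback.of_hasPullback f I.hom) (Over.w Q) (sct_proj f Q)
      ((pullback.lift_fst _ _ _).trans (Category.id_comp _).symm)
  obtain ⟨b⟩ := CurveAlgEqLib.nonempty_pullback_idealMod (q0 k)
    (isInvertible_ker f (P := (Q.left : Spec (CommRingCat.of k) ⟶ C)) (Over.w Q))
    (e.symm ▸ isInvertible_ker (PicF.XTproj f I) (sct_proj f Q))
  refine ext_val ?_
  rw [idPc, mk_val, pullPc_val, ← cl_ker k hdim Q, ← e]
  exact (cl_eq_iff.2 ⟨b⟩).symm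

/-- The Betti number at a rational point. -/
theorem betti_eq {Y : Over (Spec (CommRingCat.of k))} (y : KP k Y)
    {E : (PicF.XT (C ↘ Spec (CommRingCat.of k)) Y).Modules} (hE : PicF.IsInvertible E) {v : Pc C}
    (h : PicF.pullCl (PicF.XTmap (C ↘ Spec (CommRingCat.of k)) y) (PicF.cl E) = up k v) :
    PerfAux.betti (PicF.XTproj (C ↘ Spec (CommRingCat.of k)) Y) E (img k y) 0 = hz k v := by
  let f := C ↘ Spec (CommRingCat.of k)
  let I := 𝟙_ (Over (Spec (CommRingCat.of k)))
  let X₀ := PicF.XT f I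
  letI : X₀.Over (Spec (CommRingCat.of k)) := ⟨PicF.XTproj f I⟩
  let q := PicF.XTproj f Y
  let β : Spec (CommRingCat.of k) ⟶ Y.left := y.left
  let t := β (IsLocalRing.closedPoint k)
  let α : Y.left.residueField t ⟶ CommRingCat.of k := Y.left.descResidueField (Scheme.stalkClosedPointTo β)
  have hα : Spec.map α ≫ Y.left.fromSpecResidueField t = β :=
    Scheme.descResidueField_stalkClosedPointTo_fromSpecResidueField k Y.left β
  letI : Algebra (Y.left.residueField t) k := α.hom.toAlgebra
  haveI : IsProper q := inferInstanceAs (IsProper (pullback.snd f Y.hom))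
  haveI := fibre_isProper q t
  letI := fibreOver q t
  haveI : IsNoetherian (q.fiber t) := CurveCohLib.isNoetherian_of_proper (k := Y.left.residueField t) (X := q.fiber t)
  have sq : IsPullback (PicF.XTmap f y) (PicF.XTproj f I) q β := LineDesc.Rig.isPullback_XTmap y
  let g : X₀ ⟶ q.fiber t :=
    pullback.lift (PicF.XTmap f y) (PicF.XTproj f I ≫ Spec.map α) (by rw [sq.w, Category.assoc, hα])
  have hpb : IsPullback g (X₀ ↘ Spec (CommRingCat.of k))
      (q.fiber t ↘ Spec (CommRingCat.of (Y.left.residueField t)))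
      (Spec.map (CommRingCat.ofHom (algebraMap (Y.left.residueField t) k))) := by
    refine IsPullback.of_right ?_ (pullback.lift_snd _ _ _) (IsPullback.of_hasPullback q (Y.left.fromSpecResidueField t))
    rw [show g ≫ pullback.fst q (Y.left.fromSpecResidueField t) = PicF.XTmap f y from pullback.lift_fst _ _ _,
      show Spec.map (CommRingCat.ofHom (algebraMap (Y.left.residueField t) k)) ≫ Y.left.fromSpecResidueField t = β from hα]
    exact sq
  obtain ⟨e⟩ : Nonempty ((Scheme.Modules.pullback g).obj ((Scheme.Modules.pullback (q.fiberι t)).obj E) ≅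
      (Scheme.Modules.pullback (q0 k)).obj (out v)) := cl_eq_iff.1 (by
    change PicF.pullCl g (PicF.pullCl (q.fiberι t) (PicF.cl E)) = PicF.pullCl (q0 k) (PicF.cl (out v))
    rw [PicClLib.pullCl_comp, cl_out,
      show g ≫ q.fiberι t = PicF.XTmap f y from pullback.lift_fst _ _ _]
    exact h)
  haveI := CurveCohLib.isNoetherian_of_proper (k := k) (X := C)
  have hid : Spec.map (CommRingCat.ofHom (algebraMap k k)) = 𝟙 _ := by
    rw [show CommRingCat.ofHom (algebraMap k k) = 𝟙 _ from rfl, Spec.map_id]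
  have hpb₀ : IsPullback (q0 k) (X₀ ↘ Spec (CommRingCat.of k)) (C ↘ Spec (CommRingCat.of k))
      (Spec.map (CommRingCat.ofHom (algebraMap k k))) := by
    rw [hid]; exact IsPullback.of_hasPullback _ _
  refine ((CurveBC.finrank_hh (Y.left.residueField t) k g hpb _
    (ProjUPX.isQCoh_of_isInvertible (PicClLib.isInvertible_pullback _ hE)) 0).symm.trans ?_)
  exact ((CurveCohLib.hhEquiv (k := k) e 0).finrank_eq).trans
    (CurveBC.finrank_hh k k (q0 k) hpb₀ (out v) (ProjUPX.isQCoh_of_isInvertible (isInvertible_out v)) 0)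

/-- The class of a combination of the points of a tuple. -/
def comb (v₀ : Pc C) {n : ℕ} (e : Fin n → ℤ) (x : Fin n → Pt C) : Pc C :=
  v₀ * ∏ i, O k hdim (x i) ^ e i

include hdim in
/-- Having at most one section is an open condition on tuples. -/
theorem exists_open_hz_le (v₀ : Pc C) {n : ℕ} (e : Fin n → ℤ) :
    ∃ U : (PW k (C := C) n).left.Opens, ∀ y : KP k (PW k (C := C) n),
      img k y ∈ U ↔ hz k (comb k hdim v₀ e fun i => pt k (y ≫ pr k n i)) ≤ 1 := by
  let f := C ↘ Spec (CommRingCat.of k)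
  let W : Pc (PicF.XT f (PW k (C := C) n)) :=
    pullPc (pullback.fst f (PW k (C := C) n).hom) v₀ * ∏ i, (idPc f (pr k n i))⁻¹ ^ e i
  let q := PicF.XTproj f (PW k (C := C) n)
  haveI : IsProper q := inferInstanceAs (IsProper (pullback.snd f (PW k (C := C) n).hom))
  haveI : Smooth q := inferInstanceAs (Smooth (pullback.snd f (PW k (C := C) n).hom))
  have hW := isInvertible_out W
  have hU := S1025.result q (out W) (QCoh.isFP_of_isFinLocFree (fun x =>
      let ⟨U, hx, e⟩ := InvEnd.isFinLocFreeOfRank_one hW x; ⟨U, 1, hx, e⟩))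
    (H23.Seesaw.isFlatOver_of_isInvertible q hW) 0 2
  refine ⟨⟨_, hU⟩, fun y => ?_⟩
  have h : pullPc (PicF.XTmap f y) W = pullPc (q0 k) (comb k hdim v₀ e fun i => pt k (y ≫ pr k n i)) := by
    simp only [W, comb, map_mul, map_prod, map_zpow, map_inv, pullPc_idPc, pullPc_comp]
    rw [LineDesc.Rig.XTmap_fst]
    refine congrArg₂ _ rfl (Finset.prod_congr rfl fun i _ => ?_)
    rw [show idPc f (y ≫ pr k n i) = _ from idPc_base k hdim (y ≫ pr k n i), map_inv, inv_inv]
  change PerfAux.betti q (out W) (img k y) 0 < 2 ↔ _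
  rw [betti_eq k y hW (by rw [cl_out]; exact congrArg (fun z : Pc _ => z.1.val) h)]
  omega

include hdim in
/-- In degrees up to the genus some effective class has one section. -/
theorem exists_tuple_hz_one : ∀ {n : ℕ}, n ≤ Curv2.genus k C → ∃ x : Fin n → Pt C, hz k (∏ i, O k hdim (x i)) = 1 := by
  intro n
  induction n with
  | zero => exact fun _ => ⟨Fin.elim0, by rw [Fin.prod_univ_zero, hz_one]⟩
  | succ n ih =>
    intro hn
    obtain ⟨x, hx⟩ := ih (by omega)
    set v := ∏ i, O k hdim (x i) with hv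
    have hd : dg k v = n := dg_of_eff k hdim ⟨x, hv⟩
    have h1 := rr k hdim v
    obtain ⟨z, hz'⟩ := exists_hz_drop k hdim (v := om k hdim / v) (by omega)
    have h2 := rr k hdim (v * O k hdim z)
    rw [dg_mul k hdim, dg_O, ← div_div] at h2
    refine ⟨Fin.cons z x, ?_⟩
    rw [Fin.prod_univ_succ, Fin.cons_zero]
    simp only [Fin.cons_succ, ← hv]
    rw [mul_comm]
    omega

include hdim in
theorem cl_tensorList_ker {n : ℕ} (P : Fin n → (Spec (CommRingCat.of k) ⟶ C))
    (hP : ∀ i, P i ≫ (C ↘ Spec (CommRingCat.of k)) = 𝟙 _) :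
    PicF.cl (FGA.tensorList (List.ofFn fun i => ClSub.idealMod (P i).ker)) =
      (∏ i, O k hdim (pt k (Over.homMk (P i) (hP i))))⁻¹.1.val := by
  rw [IntSym.cl_tensorList, List.map_ofFn, List.prod_ofFn, ← Finset.prod_inv_distrib,
    SubmonoidClass.coe_finset_prod, Units.coe_prod]
  exact Finset.prod_congr rfl fun i _ => cl_ker k hdim (Over.homMk (P i) (hP i))

end Field

end Groth.Agent.JacVarLib
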