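import Groth.Agent.Jacobian.Divisor
import Groth.Agent.JacSepPts.Eval
import Groth.Agent.CurveExt.CliffordEq
import Groth.Agent.Lib.CurveCanonical
import Groth.Agent.VolLib.Kodaira
import Groth.Agent.CurveNondeg.Basic

/-!
# Divisor classes on a smooth projective curve over an algebraically closed field
-/

set_option autoImplicit false
set_option maxHeartbeats 1600000
set_option linter.style.haveILetI false
set_option linter.unusedSectionVars false
set_option backward.isDefEq.respectTransparency false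
set_option backward.isDefEq.respectTransparency.types false

universe u

open CategoryTheory CategoryTheory.Limits AlgebraicGeometry TopologicalSpace Opposite
open Groth.Agent.PnCoh.Finite (mapLin)

noncomputable section

namespace Groth.Agent.JacVarLib

open Groth.Agent Groth.Agent.H23 Groth.Agent.H23.PicMul Groth.Agent.CurvePoint
open scoped Groth.Agent.H23.PicMul

/-- The invertible classes, as a group. -/
def InvU (C : Scheme.{u}) : Subgroup (PicF.Cl C)ˣ where
  carrier := {v | PicF.IsInvertibleCl v.val}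
  one_mem' := ⟨_, rfl, InvX.isInvertible_structureModule⟩
  mul_mem' ha hb := isInvertibleCl_mul ha hb
  inv_mem' := by
    rintro v ⟨L, hL, hLi⟩
    obtain ⟨D, hD, e⟩ := PicInv.exists_inverse hLi
    exact ⟨D, (Units.inv_eq_of_mul_eq_one_right (by rw [← hL]; exact cl_eq_iff.2 e)).symm, hD⟩

/-- The Picard group. -/
abbrev Pc (C : Scheme.{u}) : Type (u + 1) := ↥(InvU C)

/-- Closed points. -/
abbrev Pt (C : Scheme.{u}) : Type u := {x : C // IsClosed ({x} : Set C)}

variable {C : Scheme.{u}}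

/-- The class of an invertible module. -/
def mk (L : C.Modules) (hL : PicF.IsInvertible L) : Pc C :=
  ⟨(isUnit_cl hL).unit, L, (IsUnit.unit_spec _).symm, hL⟩

theorem mk_val (L : C.Modules) (hL : PicF.IsInvertible L) : (mk L hL).1.val = PicF.cl L := IsUnit.unit_spec _

/-- A module in a class. -/
def out (v : Pc C) : C.Modules := Quot.out v.1.val

theorem cl_out (v : Pc C) : PicF.cl (out v) = v.1.val := Quot.out_eq _

theorem isInvertible_out (v : Pc C) : PicF.IsInvertible (out v) := by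
  obtain ⟨L, hL, hLi⟩ := v.2
  obtain ⟨e⟩ := cl_eq_iff.1 (hL.trans (cl_out v).symm)
  exact PicMul.isInvertible_of_iso e hLi

theorem out_mk (L : C.Modules) (hL : PicF.IsInvertible L) : Nonempty (out (mk L hL) ≅ L) :=
  cl_eq_iff.1 ((cl_out _).trans (mk_val L hL))

theorem out_mul (v w : Pc C) : Nonempty ((DCoh.tensorBi.obj (out v)).obj (out w) ≅ out (v * w)) := by
  refine cl_eq_iff.1 ?_
  rw [cl_out]
  exact (cl_tensor (out v) (out w)).trans (by rw [cl_out, cl_out]; rfl)

theorem out_one : Nonempty (out (1 : Pc C) ≅ Coh.structureModule C) := cl_eq_iff.1 (by rw [cl_out]; rfl)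

theorem ext_val {v w : Pc C} (h : v.1.val = w.1.val) : v = w := Subtype.ext (Units.ext h)

theorem out_mul_inv (v : Pc C) : Nonempty ((DCoh.tensorBi.obj (out v)).obj (out v⁻¹) ≅ Coh.structureModule C) := by
  obtain ⟨a⟩ := out_mul v v⁻¹
  obtain ⟨b⟩ := out_one (C := C)
  rw [mul_inv_cancel] at a
  exact ⟨a ≪≫ b⟩

variable (k : Type u) [Field k] [C.Over (Spec (CommRingCat.of k))]

/-- Degree. -/
def dg (v : Pc C) : ℤ := Curv2.deg k C (out v) 1

/-- Number of independent sections. -/
def hz (v : Pc C) : ℕ := Module.finrank k (Coh.HH C (out v) 0)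

variable [IsAlgClosed k] [IsIntegral C] [IsProper (C ↘ Spec (CommRingCat.of k))]
  [Smooth (C ↘ Spec (CommRingCat.of k))] (hdim : topologicalKrullDim C = 1)

theorem dg_mk (L : C.Modules) (hL : PicF.IsInvertible L) : dg k (mk L hL) = Curv2.deg k C L 1 := by
  obtain ⟨e⟩ := out_mk L hL
  exact CurveRR.deg_congr k e 1

theorem hz_mk (L : C.Modules) (hL : PicF.IsInvertible L) : hz k (mk L hL) = Module.finrank k (Coh.HH C L 0) := by
  obtain ⟨e⟩ := out_mk L hL
  exact (CurveCohLib.hhEquiv (k := k) e 0).finrank_eq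

include hdim in
theorem dg_mul (v w : Pc C) : dg k (v * w) = dg k v + dg k w := by
  obtain ⟨e⟩ := out_mul v w
  exact (CurveRR.deg_congr k e 1).symm.trans (CurveRR.deg_tensor k hdim (isInvertible_out v) (isInvertible_out w))

theorem dg_one : dg k (1 : Pc C) = 0 := by
  obtain ⟨e⟩ := out_one (C := C)
  exact (CurveRR.deg_congr k e 1).trans (CurveDeg.deg_structureModule k)

include hdim in
theorem dg_inv (v : Pc C) : dg k v⁻¹ = -dg k v := by
  have h := dg_mul k hdim v v⁻¹
  rw [mul_inv_cancel, dg_one] at h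
  omega

include hdim in
theorem dg_div (v w : Pc C) : dg k (v / w) = dg k v - dg k w := by
  rw [div_eq_mul_inv, dg_mul k hdim, dg_inv k hdim, sub_eq_add_neg]

include hdim in
theorem dg_pow (v : Pc C) (n : ℕ) : dg k (v ^ n) = n * dg k v := by
  induction n with
  | zero => rw [pow_zero, dg_one]; simp
  | succ n ih => rw [pow_succ, dg_mul k hdim, ih]; push_cast; ring

include hdim in
theorem dg_prod {ι : Type*} (s : Finset ι) (v : ι → Pc C) : dg k (∏ i ∈ s, v i) = ∑ i ∈ s, dg k (v i) := by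
  classical
  induction s using Finset.induction_on with
  | empty => rw [Finset.prod_empty, Finset.sum_empty, dg_one]
  | insert i s hi ih => rw [Finset.prod_insert hi, Finset.sum_insert hi, dg_mul k hdim, ih]

theorem hz_one : hz k (1 : Pc C) = 1 := by
  obtain ⟨e⟩ := out_one (C := C)
  exact (CurveCohLib.hhEquiv (k := k) e 0).finrank_eq.trans (CurveNondeg.h0_structure (X := C) k)

include hdim in
theorem hz_of_dg_neg {v : Pc C} (h : dg k v < 0) : hz k v = 0 :=
  CurveDuality.finrank_h0_of_deg_neg k hdim (isInvertible_out v) h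

/-- The class of a point. -/
def O (x : Pt C) : Pc C := (mk (ptMod x.1 x.2) (isInvertible_ptMod x.1 x.2 k hdim))⁻¹

theorem dg_O (x : Pt C) : dg k (O k hdim x) = 1 := by
  rw [O, dg_inv k hdim, dg_mk, deg_ptMod x.1 x.2 k]
  rfl

theorem O_inv_val (x : Pt C) : ((O k hdim x)⁻¹).1.val = PicF.cl (ptMod x.1 x.2) := by
  rw [O, inv_inv, mk_val]

/-- The effective classes of degree `n`. -/
def Eff (n : ℕ) (v : Pc C) : Prop := ∃ x : Fin n → Pt C, v = ∏ i, O k hdim (x i)

theorem dg_of_eff {n : ℕ} {v : Pc C} (h : Eff k hdim n v) : dg k v = n := by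
  obtain ⟨x, rfl⟩ := h
  rw [dg_prod k hdim]
  simp [dg_O k hdim]

theorem eff_mul {m n : ℕ} {v w : Pc C} (hv : Eff k hdim m v) (hw : Eff k hdim n w) : Eff k hdim (m + n) (v * w) := by
  obtain ⟨x, rfl⟩ := hv
  obtain ⟨y, rfl⟩ := hw
  refine ⟨Fin.append x y, ?_⟩
  rw [Fin.prod_univ_add]
  exact congrArg₂ _ (Finset.prod_congr rfl fun i _ => by rw [Fin.append_left])
    (Finset.prod_congr rfl fun i _ => by rw [Fin.append_right])

theorem eff_O (x : Pt C) : Eff k hdim 1 (O k hdim x) := ⟨fun _ => x, by simp⟩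

theorem hz_pos_of_eff {n : ℕ} {v : Pc C} (h : Eff k hdim n v) : 0 < hz k v := by
  obtain ⟨x, rfl⟩ := h
  haveI := CurveCohLib.isNoetherian_of_proper (k := k) (X := C)
  obtain ⟨N, u, hN, hu, hNcl⟩ := Jacobian.exists_hom_prod k hdim (fun i => (x i).1) (fun i => (x i).2) Finset.univ
  set v := ∏ i, O k hdim (x i) with hv
  have hvN : PicF.cl N = (v⁻¹).1.val := by
    rw [hNcl, hv, ← Finset.prod_inv_distrib, SubmonoidClass.coe_finset_prod, Units.coe_prod]
    exact Finset.prod_congr rfl fun i _ => (O_inv_val k hdim (x i)).symm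
  obtain ⟨e⟩ : Nonempty ((DCoh.tensorBi.obj N).obj (out v) ≅ Coh.structureModule C) := cl_eq_iff.1 (by
    refine (cl_tensor N (out v)).trans ?_
    rw [hvN, cl_out, ← Units.val_mul, ← Subgroup.coe_mul, inv_mul_cancel]
    rfl)
  obtain ⟨t, ht⟩ := CurveDuality.exists_homOfTwist k e u
  have ht0 : t ≠ 0 := fun h0 => hu (by
    have h2 : CurveDuality.homOfTwist e (Coh.structureModule C) (0 + 0) = _ :=
      CurveExt.Cliff.homOfTwist_add e (0 : Coh.HH C _ 0) 0
    rw [add_zero, left_eq_add] at h2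
    rw [← ht, h0, h2])
  haveI := CurveCohLib.finite_HH (k := k) (CurveTensor.isCoh_tensor
    (fun y => let ⟨U, hy, e⟩ := InvEnd.isFinLocFreeOfRank_one (isInvertible_out v) y; ⟨U, 1, hy, e⟩)
      QCoh.isCoh_structureModule') 0
  exact Nat.lt_of_lt_of_eq (Module.finrank_pos_iff_exists_ne_zero.2 ⟨t, ht0⟩)
    (CurveCohLib.hhEquiv (k := k) (KFlatLib.tensorUnitIso (out v)) 0).finrank_eq

include hdim in
theorem eff_of_hz_pos {n : ℕ} {v : Pc C} (hd : dg k v = n) (h : 0 < hz k v) : Eff k hdim n v := by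
  haveI := CurveCohLib.isNoetherian_of_proper (k := k) (X := C)
  obtain ⟨e⟩ : Nonempty ((DCoh.tensorBi.obj (out v⁻¹)).obj (out v) ≅ Coh.structureModule C) := by
    obtain ⟨a⟩ := out_mul v⁻¹ v
    obtain ⟨b⟩ := out_one (C := C)
    rw [inv_mul_cancel] at a
    exact ⟨a ≪≫ b⟩
  haveI := CurveCohLib.finite_HH (k := k) (CurveTensor.isCoh_tensor
    (fun y => let ⟨U, hy, e⟩ := InvEnd.isFinLocFreeOfRank_one (isInvertible_out v) y; ⟨U, 1, hy, e⟩)
      QCoh.isCoh_structureModule') 0
  obtain ⟨t, ht⟩ := Module.finrank_pos_iff_exists_ne_zero.1 (Nat.lt_of_lt_of_eq h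
    (CurveCohLib.hhEquiv (k := k) (KFlatLib.tensorUnitIso (out v)) 0).finrank_eq.symm)
  have hd' : Curv2.deg k C (out v⁻¹) 1 = -(n : ℤ) := (dg_inv k hdim v).trans (by rw [hd])
  obtain ⟨z, hzc, hcl⟩ := CurveAlgEqLib.exists_points k hdim n (out v⁻¹) (isInvertible_out _)
    (CurveDuality.homOfTwist e _ t) (CurveDuality.homOfTwist_ne_zero e ht) hd'
  refine ⟨fun i => ⟨z i, hzc i⟩, inv_injective (ext_val ?_)⟩
  rw [← Finset.prod_inv_distrib, SubmonoidClass.coe_finset_prod, Units.coe_prod, ← cl_out, hcl]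
  exact Finset.prod_congr rfl fun i _ => (O_inv_val k hdim ⟨z i, hzc i⟩).symm

include hdim in
theorem eff_iff {n : ℕ} {v : Pc C} : Eff k hdim n v ↔ dg k v = n ∧ 0 < hz k v :=
  ⟨fun h => ⟨dg_of_eff k hdim h, hz_pos_of_eff k hdim h⟩, fun h => eff_of_hz_pos k hdim h.1 h.2⟩

/-- Where some section generates. -/
def gen (v : Pc C) : Set C := JacSepPts.genLocus (out v)

include k in
theorem isOpen_gen (v : Pc C) : IsOpen (gen v) := JacSepPts.isOpen_genLocus k (isInvertible_out v)

include hdim in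
theorem hz_div_O (v : Pc C) (x : Pt C) :
    (x.1 ∈ gen v → hz k v = hz k (v / O k hdim x) + 1) ∧ (x.1 ∉ gen v → hz k v = hz k (v / O k hdim x)) := by
  have h := JacSepPts.finrank_twist_rat k (isInvertible_out v) x.2 hdim (CurveSection.surjective_resMap k x.2)
  obtain ⟨e⟩ : Nonempty ((DCoh.tensorBi.obj (out v)).obj (ptMod x.1 x.2) ≅ out (v / O k hdim x)) := cl_eq_iff.1 (by
    refine (cl_tensor (out v) (ptMod x.1 x.2)).trans ?_
    rw [cl_out, cl_out, ← O_inv_val k hdim x, div_eq_mul_inv]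
    rfl)
  rw [(CurveCohLib.hhEquiv (k := k) e 0).finrank_eq] at h
  exact h

include hdim in
theorem hz_mul_O (v : Pc C) (x : Pt C) : hz k v ≤ hz k (v * O k hdim x) ∧ hz k (v * O k hdim x) ≤ hz k v + 1 := by
  obtain ⟨h1, h2⟩ := hz_div_O k hdim (v * O k hdim x) x
  rw [mul_div_cancel_right] at h1 h2
  by_cases h : x.1 ∈ gen (v * O k hdim x)
  · rw [h1 h]; omega
  · rw [h2 h]; omega

include k in
/-- An open set of the curve with a point has a closed point. -/
theorem exists_pt_mem {U : Set C} (hU : IsOpen U) (hne : U.Nonempty) : ∃ x : Pt C, x.1 ∈ U := by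
  haveI : JacobsonSpace C := LocallyOfFiniteType.jacobsonSpace (C ↘ Spec (CommRingCat.of k))
  obtain ⟨x, hx, hxc⟩ := nonempty_inter_closedPoints hne hU.isLocallyClosed
  exact ⟨⟨x, hxc⟩, hx⟩

include hdim in
/-- A class with sections loses one at some point. -/
theorem exists_hz_drop {v : Pc C} (h : 0 < hz k v) : ∃ x : Pt C, hz k v = hz k (v / O k hdim x) + 1 := by
  obtain ⟨x, hx⟩ := exists_pt_mem k (isOpen_gen k v)
    ⟨_, JacSepPts.genericPoint_mem_genLocus k (isInvertible_out v) h⟩
  exact ⟨x, (hz_div_O k hdim v x).1 hx⟩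

include hdim in
/-- Generation away from a point survives adding the point. -/
theorem mem_gen_mul_O {v : Pc C} {x : Pt C} {y : C} (hy : y ∈ gen v) (hne : y ≠ x.1) :
    y ∈ gen (v * O k hdim x) := by
  obtain ⟨t, ht⟩ := hy
  let w := v * O k hdim x
  have hwf := CurveStable.isFinLocFree_of_rank (InvEnd.isFinLocFreeOfRank_one (isInvertible_out w))
  have hS := CurveTensor.shortExact_tensor hwf _ _ _ (shortExact_pt x.1 x.2)
  obtain ⟨e⟩ : Nonempty (out v ≅ (DCoh.tensorBi.obj (out w)).obj (ptMod x.1 x.2)) := cl_eq_iff.1 (by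
    refine Eq.trans ?_ (cl_tensor (out w) (ptMod x.1 x.2)).symm
    rw [cl_out, cl_out, ← O_inv_val k hdim x, ← Units.val_mul, ← Subgroup.coe_mul]
    exact congrArg (fun z : Pc C => z.1.val) (mul_inv_cancel_right v _).symm)
  let α : out v ⟶ out w :=
    e.hom ≫ (DCoh.tensorBi.obj (out w)).map (ClSub.idealModι (ptIdeal x.1 x.2)) ≫ (KFlatLib.tensorUnitIso (out w)).hom
  refine ⟨mapLin k α 0 t, fun hin => hin ?_⟩
  let F := DerSch.stalkFunctor C y
  have hz0 : IsZero (F.obj ((DCoh.tensorBi.obj (out w)).obj (ClSub.quotMod (ptIdeal x.1 x.2)))) := by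
    have hsupp := (CurveTensor.support_tensor_subset (E := out w)).trans (support_quot_subset x.1 x.2)
    haveI : Subsingleton (((DCoh.tensorBi.obj (out w)).obj (ClSub.quotMod (ptIdeal x.1 x.2))).presheaf.stalk y) :=
      not_not.1 fun hn => hne (Set.mem_singleton_iff.1 (hsupp hn))
    exact @ModuleCat.isZero_of_subsingleton _ _ (F.obj _) ‹_›
  haveI : Epi (F.map ((DCoh.tensorBi.obj (out w)).map (ClSub.idealModι (ptIdeal x.1 x.2)))) :=
    Preadditive.epi_of_isZero_cokernel _ (hz0.of_iso ((PreservesCokernel.iso F _).symm ≪≫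
      F.mapIso ((cokernelIsCokernel _).coconePointUniqueUpToIso hS.gIsCokernel)))
  haveI : Epi (F.map α) := by
    simp only [α, F.map_comp]
    infer_instance
  let s := CurveSpecial.homOfClass t
  haveI hs0 : Subsingleton ((cokernel s).presheaf.stalk y) := not_not.1 ht
  haveI : Epi (F.map s) := Preadditive.epi_of_isZero_cokernel _
    (IsZero.of_iso (@ModuleCat.isZero_of_subsingleton _ _ (F.obj (cokernel s)) hs0) (PreservesCokernel.iso F s).symm)
  haveI : Epi (F.map (CurveSpecial.homOfClass (mapLin k α 0 t))) := by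
    rw [CurveExt.Cliff.homOfClass_map, F.map_comp]
    infer_instance
  exact ModuleCat.subsingleton_of_isZero ((isZero_cokernel_of_epi (F.map (CurveSpecial.homOfClass (mapLin k α 0 t)))).of_iso
    (PreservesCokernel.iso F _))

include hdim in
/-- A point below the only effective divisor of its class is one of its points. -/
theorem mem_of_hz_eq_one : ∀ {n : ℕ} (x : Fin n → Pt C), hz k (∏ i, O k hdim (x i)) = 1 →
    ∀ y : Pt C, 0 < hz k ((∏ i, O k hdim (x i)) / O k hdim y) → ∃ i, x i = y := by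
  intro n
  induction n with
  | zero =>
    intro x _ y h
    rw [hz_of_dg_neg k hdim] at h
    · omega
    · rw [dg_div k hdim, dg_O k hdim, Fin.prod_univ_zero, dg_one]; omega
  | succ n ih =>
    intro x h1 y hy
    by_contra hne
    push Not at hne
    rw [Fin.prod_univ_succ, mul_comm] at h1 hy
    set D := ∏ i : Fin n, O k hdim (x i.succ) with hD
    have hD1 : hz k D = 1 := le_antisymm (h1 ▸ (hz_mul_O k hdim D (x 0)).1)
      (hz_pos_of_eff k hdim ⟨fun i => x i.succ, hD⟩)
    by_cases hg : y.1 ∈ gen D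
    · have h := (hz_div_O k hdim _ y).1 (mem_gen_mul_O k hdim hg fun he => hne 0 (Subtype.ext he.symm))
      omega
    · obtain ⟨i, hi⟩ := ih (fun i => x i.succ) hD1 y (by
        rw [← (hz_div_O k hdim D y).2 hg, hD1]; omega)
      exact hne i.succ hi

variable (hg : 0 < Curv2.genus k C)

include hdim in
theorem exists_dualizing : ∃ K : Pc C, hz k K = Curv2.genus k C ∧ dg k K = 2 * (Curv2.genus k C : ℤ) - 2 ∧
    ∀ v : Pc C, (hz k v : ℤ) - hz k (K / v) = dg k v + 1 - Curv2.genus k C := by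
  haveI := CurveCohLib.isNoetherian_of_proper (k := k) (X := C)
  obtain ⟨ω, μ, hω⟩ := CurveDuality.exists_isDualizing k hdim
  obtain ⟨h0, -, hd⟩ := CurveDuality.canonical_invariants k (CurveNondeg.h0_structure (X := C) k) hω hdim
  refine ⟨mk ω hω.inv, (hz_mk k ω hω.inv).trans h0, (dg_mk k ω hω.inv).trans hd, fun v => ?_⟩
  obtain ⟨e⟩ := out_mul_inv v
  obtain ⟨a⟩ := out_mul v⁻¹ (mk ω hω.inv)
  obtain ⟨b⟩ := out_mk ω hω.inv
  have h1 := CurveDuality.finrank_h1_eq k hω hdim (isInvertible_out v) e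
  rw [(CurveCohLib.hhEquiv (k := k) (((DCoh.tensorBi.obj (out v⁻¹)).mapIso b).symm ≪≫ a) 0).finrank_eq] at h1
  rw [show mk ω hω.inv / v = v⁻¹ * mk ω hω.inv by rw [div_eq_mul_inv, mul_comm]]
  unfold hz dg Curv2.deg
  rw [CurveDuality.euler_eq k hdim (CurveDeg.isCoh_of_isInvertible (isInvertible_out v)),
    CurveDuality.euler_structure k (CurveNondeg.h0_structure (X := C) k) hdim, h1]
  push_cast
  ring

include hdim hg in
/-- In positive genus points are determined by their classes. -/
theorem O_injective : Function.Injective (O k hdim) := by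
  intro x y hxy
  by_contra hne
  obtain ⟨K, hK, hKd, hRR⟩ := exists_dualizing k hdim
  -- two points with the same class move in a pencil
  have h2 : hz k (O k hdim x) = 2 := by
    have hle := (hz_mul_O k hdim 1 x).2
    rw [one_mul, hz_one] at hle
    have hge := hz_pos_of_eff k hdim (eff_O k hdim x)
    by_contra h
    obtain ⟨i, hi⟩ := mem_of_hz_eq_one k hdim (fun _ : Fin 1 => x) (by rw [Fin.prod_univ_one]; omega) y (by
      rw [Fin.prod_univ_one, hxy, div_self', hz_one]; omega)
    exact hne hi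
  -- so all points have that class and no form is nonzero anywhere
  obtain ⟨z, hz'⟩ := exists_pt_mem k (isOpen_gen k K)
    ⟨_, JacSepPts.genericPoint_mem_genLocus k (isInvertible_out K) (show 0 < hz k K by omega)⟩
  have hdrop := (hz_div_O k hdim K z).1 hz'
  have hxz : O k hdim x = O k hdim z := by
    have h1 : 0 < hz k (O k hdim x / O k hdim z) := by
      by_cases h : z.1 ∈ gen (O k hdim x)
      · have := (hz_div_O k hdim (O k hdim x) z).1 h; omega
      · have := (hz_div_O k hdim (O k hdim x) z).2 h; omega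
    obtain ⟨p, hp⟩ := eff_of_hz_pos k hdim (n := 0) (by rw [dg_div k hdim, dg_O, dg_O]; rfl) h1
    rw [Fin.prod_univ_zero] at hp
    exact div_eq_one.1 hp
  have hr := hRR (O k hdim z)
  rw [dg_O, ← hxz, h2, hxz] at hr
  omega

end Groth.Agent.JacVarLib
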