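import Groth.Agent.JacVarLib.Points
import Groth.Agent.CurveBC.Main
import Groth.Agent.CurveEmbed.Points
import Groth.Agent.GrpSchLib.SmoothRegular
import Groth.Agent.S11336

/-!
# Further facts on effective classes of a curve
-/

set_option autoImplicit false
set_option maxHeartbeats 1600000
set_option linter.style.haveILetI false
set_option linter.unusedSectionVars false
set_option backward.isDefEq.respectTransparency false
set_option backward.isDefEq.respectTransparency.types false

universe u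

open CategoryTheory CategoryTheory.Limits AlgebraicGeometry TopologicalSpace Opposite

noncomputable section

namespace Groth.Agent.JacVarLib

open Groth.Agent Groth.Agent.H23 Groth.Agent.H23.PicMul Groth.Agent.CurvePoint
open scoped Groth.Agent.H23.PicMul

variable (k : Type u) [Field k] {C : Scheme.{u}} [C.Over (Spec (CommRingCat.of k))]
  [IsAlgClosed k] [IsIntegral C] [IsProper (C ↘ Spec (CommRingCat.of k))]
  [Smooth (C ↘ Spec (CommRingCat.of k))] [GeometricallyConnected (C ↘ Spec (CommRingCat.of k))]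
  (hdim : topologicalKrullDim C = 1)

/-- The canonical class. -/
def om : Pc C :=
  mk (Omega.sheaf (C ↘ Spec (CommRingCat.of k)))
    (CurveBC.isInvertible_omega k C hdim (CurveBC.finrank_h0_of_geometricallyConnected k C))

theorem hz_om : hz k (om k hdim) = Curv2.genus k C :=
  (hz_mk k _ _).trans (CurveBC.canonical_invariants k C hdim (CurveBC.finrank_h0_of_geometricallyConnected k C)).1

theorem dg_om : dg k (om k hdim) = 2 * (Curv2.genus k C : ℤ) - 2 :=
  (dg_mk k _ _).trans (CurveBC.canonical_invariants k C hdim (CurveBC.finrank_h0_of_geometricallyConnected k C)).2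

include hdim in
theorem eq_one_of_dg_zero {v : Pc C} (hd : dg k v = 0) (h : 0 < hz k v) : v = 1 := by
  obtain ⟨x, hx⟩ := eff_of_hz_pos k hdim (n := 0) (by rw [hd]; rfl) h
  rwa [Fin.prod_univ_zero] at hx

/-- Riemann–Roch. -/
theorem rr (v : Pc C) : (hz k v : ℤ) - hz k (om k hdim / v) = dg k v + 1 - Curv2.genus k C := by
  obtain ⟨K, -, hK, hRR⟩ := exists_dualizing k hdim
  have h := hRR (om k hdim)
  rw [hz_om, dg_om] at h
  have h1 : K / om k hdim = 1 := eq_one_of_dg_zero k hdim (by rw [dg_div k hdim, hK, dg_om, sub_self]) (by omega)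
  rw [← div_eq_one.1 h1]
  exact hRR v

include hdim in
theorem exists_pt_add_zero {v : Pc C} (h0 : hz k v = 0) (hd : dg k v + 2 ≤ Curv2.genus k C) :
    ∃ x : Pt C, hz k (v * O k hdim x) = 0 := by
  have h1 := rr k hdim v
  obtain ⟨x, hx⟩ := exists_hz_drop k hdim (v := om k hdim / v) (by omega)
  refine ⟨x, ?_⟩
  have h2 := rr k hdim (v * O k hdim x)
  rw [dg_mul k hdim, dg_O, ← div_div] at h2
  omega

include hdim in
/-- A class without sections stays so after adding general points, up to degree `g - 1`. -/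
theorem exists_add_zero (n : ℕ) {v : Pc C} (h0 : hz k v = 0) (hd : dg k v + n + 1 ≤ Curv2.genus k C) :
    ∃ x : Fin n → Pt C, hz k (v * ∏ i, O k hdim (x i)) = 0 := by
  induction n generalizing v with
  | zero => exact ⟨Fin.elim0, by rwa [Fin.prod_univ_zero, mul_one]⟩
  | succ n ih =>
    obtain ⟨x, hx⟩ := exists_pt_add_zero k hdim h0 (by push_cast at hd; omega)
    obtain ⟨y, hy⟩ := ih hx (by rw [dg_mul k hdim, dg_O]; push_cast at hd; omega)
    exact ⟨Fin.cons x y, by
      rw [Fin.prod_univ_succ, Fin.cons_zero]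
      simp only [Fin.cons_succ]
      rwa [← mul_assoc]⟩

include hdim in
theorem hz_O (hg : 0 < Curv2.genus k C) (x : Pt C) : hz k (O k hdim x) = 1 := by
  have h1 := (hz_mul_O k hdim 1 x).2
  rw [one_mul, hz_one] at h1
  have h2 := hz_pos_of_eff k hdim (eff_O k hdim x)
  by_contra h
  obtain ⟨y, hy⟩ := exists_pt_mem k (U := {x.1}ᶜ) x.2.isOpen_compl ⟨genericPoint C, fun h' =>
    CurveEmbed.genericPoint_not_closed hdim (by rw [Set.mem_singleton_iff.1 h']; exact x.2)⟩
  refine hy (congrArg Subtype.val (O_injective k hdim hg (?_ : O k hdim y = O k hdim x)))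
  have h3 : 0 < hz k (O k hdim x / O k hdim y) := by
    by_cases hyg : y.1 ∈ gen (O k hdim x)
    · have := (hz_div_O k hdim (O k hdim x) y).1 hyg; omega
    · have := (hz_div_O k hdim (O k hdim x) y).2 hyg; omega
  exact (div_eq_one.1 (eq_one_of_dg_zero k hdim (by rw [dg_div k hdim, dg_O, dg_O, sub_self]) h3)).symm

include hdim in
theorem hz_le_of_dg_one (hg : 0 < Curv2.genus k C) {v : Pc C} (hd : dg k v = 1) : hz k v ≤ 1 := by
  rcases Nat.eq_zero_or_pos (hz k v) with h | h
  · omega
  · obtain ⟨x, rfl⟩ := eff_of_hz_pos k hdim (n := 1) (by rw [hd]; rfl) h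
    rw [Fin.prod_univ_one, hz_O k hdim hg]

include hdim in
theorem hz_le_of_dg_two (hg : 0 < Curv2.genus k C) {v : Pc C} (hd : dg k v = 2) : hz k v ≤ 2 := by
  rcases Nat.eq_zero_or_pos (hz k v) with h | h
  · omega
  · obtain ⟨x, hx⟩ := exists_hz_drop k hdim h
    have := hz_le_of_dg_one k hdim hg (v := v / O k hdim x) (by rw [dg_div k hdim, hd, dg_O]; rfl)
    omega

include hdim in
theorem hz_le_of_dg_three (hg : 2 ≤ Curv2.genus k C) {v : Pc C} (hd : dg k v = 3) : hz k v ≤ 2 := by
  have hr := rr k hdim v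
  rw [hd] at hr
  rcases Nat.eq_zero_or_pos (hz k v) with h | h
  · omega
  rcases Nat.eq_zero_or_pos (hz k (om k hdim / v)) with h' | h'
  · omega
  obtain ⟨e⟩ : Nonempty (CohB1.tensorMod (out v) (out v⁻¹) ≅ Coh.structureModule C) := out_mul_inv v
  obtain ⟨e2⟩ : Nonempty (CohB1.tensorMod (Omega.sheaf (C ↘ Spec (CommRingCat.of k))) (out v⁻¹) ≅ out (om k hdim / v)) :=
    cl_eq_iff.1 (by
      refine (cl_tensor _ _).trans ?_
      rw [cl_out, cl_out, div_eq_mul_inv, Subgroup.coe_mul, Units.val_mul, om, mk_val])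
  have hC := S11336.result k C hdim
    (fun z => GrpSchLib.isRegularLocalRing_stalk_of_smooth (C ↘ Spec (CommRingCat.of k)) z)
    (out v) (out v⁻¹) (isInvertible_out v) ⟨e⟩
    (Module.nontrivial_of_finrank_pos (R := k) h)
    (Module.nontrivial_of_finrank_pos (R := k) (by
      rw [(CurveCohLib.hhEquiv (k := k) e2 0).finrank_eq]; exact h'))
  change 2 * (hz k v : ℤ) ≤ dg k v + 2 at hC
  omega

include k hdim in
theorem exists_pt_ne (s : Finset (Pt C)) : ∃ x : Pt C, x ∉ s := by
  classical
  obtain ⟨x, hx⟩ := exists_pt_mem k (U := (⋃ y ∈ s, {y.1})ᶜ)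
    (s.finite_toSet.isClosed_biUnion fun y _ => y.2).isOpen_compl ⟨genericPoint C, fun h => by
      obtain ⟨y, -, hy⟩ := Set.mem_iUnion₂.1 h
      exact CurveEmbed.genericPoint_not_closed hdim (Set.mem_singleton_iff.1 hy ▸ y.2)⟩
  exact ⟨x, fun h => hx (Set.mem_iUnion₂.2 ⟨x, h, rfl⟩)⟩

include hdim in
/-- A curve of genus at least two has no translation of points by a nonzero class. -/
theorem eq_one_of_translate (hg : 2 ≤ Curv2.genus k C) {d : Pc C} (hd : dg k d = 0)
    (h : ∀ x : Pt C, 0 < hz k (d * O k hdim x)) : d = 1 := by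
  classical
  have hg0 : 0 < Curv2.genus k C := by omega
  by_contra hd1
  have hex : ∀ x, ∃ y, d * O k hdim x = O k hdim y := fun x => by
    obtain ⟨y, hy⟩ := eff_of_hz_pos k hdim (n := 1) (by rw [dg_mul k hdim, hd, dg_O]; rfl) (h x)
    exact ⟨y 0, hy.trans (Fin.prod_univ_one _)⟩
  choose q hq using hex
  obtain ⟨a, -⟩ := exists_pt_ne k hdim (∅ : Finset (Pt C))
  have hpen : ∀ x : Pt C, x ≠ a → 2 ≤ hz k (d * O k hdim x * O k hdim a) := by
    intro x hxa
    have hpos : 0 < hz k (d * O k hdim x * O k hdim a) :=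
      hz_pos_of_eff k hdim (n := 2) ⟨![q x, a], by simp [Fin.prod_univ_two, hq]⟩
    by_contra h2
    have h1 : hz k (∏ i, O k hdim (![q x, a] i)) = 1 := by
      rw [Fin.prod_univ_two]
      simp only [Matrix.cons_val_zero, Matrix.cons_val_one, ← hq]
      omega
    obtain ⟨i, hi⟩ := mem_of_hz_eq_one k hdim _ h1 (q a) (by
      rw [Fin.prod_univ_two]
      simp only [Matrix.cons_val_zero, Matrix.cons_val_one, ← hq]
      rw [mul_right_comm d (O k hdim x), mul_div_cancel_left, hz_O k hdim hg0]
      omega)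
    fin_cases i
    · have e := congrArg (O k hdim) hi
      simp only [Matrix.cons_val_zero, ← hq, Fin.zero_eta] at e
      exact hxa (O_injective k hdim hg0 (mul_left_cancel e))
    · have e := congrArg (O k hdim) hi
      simp only [Matrix.cons_val_one, ← hq, Fin.mk_one] at e
      exact hd1 (mul_eq_right.1 e.symm)
  obtain ⟨b, hb⟩ := exists_pt_ne k hdim {a}
  obtain ⟨c, hc⟩ := exists_pt_ne k hdim {a, b}
  simp only [Finset.mem_singleton, Finset.mem_insert, not_or] at hb hc
  set v₁ := d * O k hdim b * O k hdim a with hv₁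
  set w := v₁ * O k hdim c with hw
  have hd₁ : dg k v₁ = 2 := by rw [hv₁, dg_mul k hdim, dg_mul k hdim, hd, dg_O, dg_O]; rfl
  have hd₃ : dg k w = 3 := by rw [hw, dg_mul k hdim, hd₁, dg_O]; rfl
  have hw3 := hz_le_of_dg_three k hdim hg hd₃
  have e2 : w / O k hdim b = d * O k hdim c * O k hdim a := by
    rw [hw, hv₁, div_eq_iff_eq_mul]
    simp only [mul_comm, mul_assoc, mul_left_comm]
  have h2c := hpen c hc.1
  rw [← e2] at h2c
  have hnb : b.1 ∉ gen w := fun hm => by
    have := (hz_div_O k hdim w b).1 hm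
    omega
  refine hnb (mem_gen_mul_O k hdim ?_ fun he => hc.2 (Subtype.ext he).symm)
  by_contra hm
  have h3 := (hz_div_O k hdim v₁ b).2 hm
  have h4 := hpen b hb
  rw [← hv₁, h3] at h4
  have := hz_le_of_dg_one k hdim hg0 (v := v₁ / O k hdim b) (by rw [dg_div k hdim, hd₁, dg_O]; rfl)
  omega

end Groth.Agent.JacVarLib
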